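import Cfsg.Agent.H31.CV1
import Cfsg.Agent.H20.SimpleN2
import Cfsg.Agent.H18.SmallTools
import Cfsg.Agent.S0111

/-! The case C(u) = 2 x 2^3.L3(2) (see notes/CV.md). -/

set_option autoImplicit false

namespace Cfsg.Agent.H31.HV

open Subgroup Cfsg.Agent.H49 Cfsg.Agent.CV

variable {G : Type*} [Group G] {V K : Subgroup G} {t u : G}

theorem spl_comm (h : Spl u K) {a b : G} (ha : Commute a u) (hb : Commute b u) :
    a * b * a⁻¹ * b⁻¹ ∈ K := by
  have key : ∀ y, Commute y u → ∃ k ∈ K, ∃ i : ℤ, y = u ^ i * k := fun y hy => by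
    rcases h.all y hy with e | e
    · exact ⟨y, e, 0, by simp⟩
    · exact ⟨u * y, e, -1, by simp⟩
  obtain ⟨k, hk, i, rfl⟩ := key a ha
  obtain ⟨l, hl, j, rfl⟩ := key b hb
  have c1 := (h.comm k hk).zpow_right
  have c2 := (h.comm l hl).zpow_right
  have e : u ^ i * k * (u ^ j * l) * (u ^ i * k)⁻¹ * (u ^ j * l)⁻¹ = k * l * k⁻¹ * l⁻¹ := by
    have d1 : Commute (u ^ i) (u ^ j * l) := ((Commute.refl u).zpow_zpow i j).mul_right (c2 i).symm
    have d2 : Commute (u ^ j) k := (c1 j).symm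
    have d3 : Commute (u ^ j) (k * l * k⁻¹ * l⁻¹) :=
      ((d2.mul_right (c2 j).symm).mul_right d2.inv_right).mul_right (c2 j).symm.inv_right
    calc u ^ i * k * (u ^ j * l) * (u ^ i * k)⁻¹ * (u ^ j * l)⁻¹
        = k * (u ^ i * (u ^ j * l) * (u ^ i)⁻¹) * k⁻¹ * (u ^ j * l)⁻¹ := by
          rw [← (c1 i).eq]; group
      _ = (k * u ^ j) * l * k⁻¹ * l⁻¹ * (u ^ j)⁻¹ := by rw [d1.mul_inv_cancel]; group
      _ = u ^ j * (k * l * k⁻¹ * l⁻¹) * (u ^ j)⁻¹ := by rw [← d2.eq]; group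
      _ = _ := d3.mul_inv_cancel
  rw [e]
  exact mul_mem (mul_mem (mul_mem hk hl) (inv_mem hk)) (inv_mem hl)

theorem spl_comm' (h : Spl u K) {g a b : G} (ha : Commute a (g * u * g⁻¹))
    (hb : Commute b (g * u * g⁻¹)) : g⁻¹ * (a * b * a⁻¹ * b⁻¹) * g ∈ K := by
  have key : ∀ y, Commute y (g * u * g⁻¹) → Commute (g⁻¹ * y * g) u := fun y hy => by
    have := hy.eq
    change g⁻¹ * y * g * u = u * (g⁻¹ * y * g)
    calc g⁻¹ * y * g * u = g⁻¹ * (y * (g * u * g⁻¹)) * g := by group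
      _ = _ := by rw [this]; group
  have := spl_comm h (key a ha) (key b hb)
  convert this using 1
  group

theorem Tv.cw (h : Hol V K) {z v w y : G} (T : Tv V K t z v w) (hy : y ∈ V) :
    w * (t * y) * w⁻¹ = t * (z * y) := by
  have ti : t⁻¹ = t := inv_eq_of_mul_eq_one_right T.sq
  have hw := T.bas.hc
  calc w * (t * y) * w⁻¹ = t * (t⁻¹ * w * t⁻¹⁻¹) * (y * w⁻¹) := by group
    _ = t * (t * w * t⁻¹) * (y * w⁻¹) := by rw [inv_inv, ti]
    _ = t * (z * (w * w) * y) := by rw [T.hw, inv_eq h hw, comm h hy hw]; group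
    _ = _ := by rw [h.sq w hw, mul_one]

theorem Tv.fix' (h : Hol V K) {z v w y : G} (T : Tv V K t z v w) (hy : y ∈ V)
    (e : t * y * (t * y) = 1) : y = 1 ∨ y = z ∨ y = v ∨ y = z * v := by
  refine T.fix h hy ?_
  rw [inv_eq_of_mul_eq_one_right T.sq, ← inv_eq h hy, eq_inv_iff_mul_eq_one, inv_eq h hy,
    mul_assoc (t * y), e]

variable [Finite G]

/-- the commutator computation in `K` -/
theorem core (h : Hol V K) {z v w : G} (T : Tv V K t z v w) (hn : ¬ IsConj t (t * v)) :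
    ∃ p q, Commute p t ∧ Commute q t ∧ Commute v t ∧ z = q * v * q⁻¹ * v⁻¹ ∧
      (t = p * q * p⁻¹ * q⁻¹ ∨ t = p * q * p⁻¹ * q⁻¹ * z) := by
  have B := T.bas
  have hz := B.ha
  have hv := B.hb
  have hw := B.hc
  have zz := h.sq z hz
  have vv := h.sq v hv
  have ww := h.sq w hw
  have ti : t⁻¹ = t := inv_eq_of_mul_eq_one_right T.sq
  have cw : ∀ y ∈ V, w * (t * y) * w⁻¹ = t * (z * y) := fun y hy => T.cw h hy
  have hN : ∀ k ∈ K, k * t * k⁻¹ * z * (k * t * k⁻¹)⁻¹ = z → k * t * k⁻¹ * v * (k * t * k⁻¹)⁻¹ = v →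
      k * t * k⁻¹ * w * (k * t * k⁻¹)⁻¹ = z * w → k * t * k⁻¹ = t ∨ k * t * k⁻¹ = t * z := by
    intro k hk h1 h2 h3
    obtain ⟨y, hy, e⟩ := B.same h T.mem (mul_mem (mul_mem hk T.mem) (inv_mem hk))
      (h1.trans T.hz.symm) (h2.trans T.hv.symm) (h3.trans T.hw.symm)
    have h4 : t * y * (t * y) = 1 := by rw [← e, ← cmul, T.sq]; simp
    have h6 : IsConj t (t * y) := isConj_iff.2 ⟨k, e⟩
    rcases T.fix' h hy h4 with r | r | r | r
    · left; rw [e, r, mul_one]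
    · right; rw [e, r]
    · exact absurd (r ▸ h6) hn
    · exact absurd (h6.trans (r ▸ (isConj_iff.2 ⟨w, cw v hv⟩).symm)) hn
  have act : ∀ k y : G, k * k = 1 → k * t * k⁻¹ * y * (k * t * k⁻¹)⁻¹ =
      k * (t * (k * y * k⁻¹) * t⁻¹) * k⁻¹ := fun k y hk => by
    have ki : k⁻¹ = k := inv_eq_of_mul_eq_one_right hk
    rw [mul_inv_rev, mul_inv_rev, inv_inv, ki]
    group
  -- the element `p`
  obtain ⟨k1, -, P⟩ := T.move h (a := v) (b := z) (c := w)
    ⟨hv, hz, hw, B.b1, B.a1, B.ba.symm, B.c1, B.cb, B.ca, by rw [comm h hv hz]; exact B.cab⟩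
  generalize k1 * t * k1⁻¹ = p at P
  have pi : p⁻¹ = p := inv_eq_of_mul_eq_one_right P.sq
  have pt : p * t * p⁻¹ = t := by
    rcases hN p P.mem (by rw [act p z P.sq, P.hv, T.hz, P.hv])
      (by rw [act p v P.sq, P.hz, T.hv, P.hz])
      (by rw [act p w P.sq, P.hw, cmul t, T.hv, T.hw, cmul p, cmul p, P.hz, P.hv, P.hw,
        ← mul_assoc, ← mul_assoc, comm h hv hz, mul_assoc z, vv, mul_one]) with e | e
    · exact e
    exfalso
    have zv : z * v ∈ V := mul_mem hz hv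
    obtain ⟨k2, -, R⟩ := T.move h (a := z * v) (b := z) (c := w)
      ⟨zv, hz, hw, fun e => B.ba (by rw [eq_inv_of_mul_eq_one_right e, inv_eq h hz]), B.a1,
        fun e => B.b1 (by simpa using e), B.c1, B.cab, B.ca,
        by rw [comm h zv hz, ← mul_assoc, zz, one_mul]; exact B.cb⟩
    generalize k2 * t * k2⁻¹ = r at R
    have pt1 : ∀ y : G, p * t * y * (p * t)⁻¹ = p * (t * y * t⁻¹) * p⁻¹ := fun y => by group
    obtain ⟨y, hy, e2⟩ := R.bas.same h R.mem (mul_mem P.mem T.mem)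
      (by rw [pt1, R.hz, cmul t, T.hz, T.hv, cmul p, P.hz, P.hv])
      (by rw [pt1, R.hv, T.hz, P.hv])
      (by rw [pt1, R.hw, T.hw, cmul p, P.hv, P.hw, mul_assoc])
    have e3 : p * t * (p * t) = z := by
      calc p * t * (p * t) = p * t * p⁻¹ * t⁻¹ := by rw [pi, ti]; group
        _ = z := by rw [e, T.hz]
    have ri : r⁻¹ = r := inv_eq_of_mul_eq_one_right R.sq
    have e4 : r * y * r⁻¹ * y = z := by rw [← e3, e2, ri]; group
    rcases R.act h hy with e5 | e5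
    · rw [e5.1, h.sq y hy] at e4
      exact B.a1 e4.symm
    · rw [e5, mul_assoc, h.sq y hy, mul_one] at e4
      exact B.b1 (by simpa using e4)
  -- the element `q`
  have BQ : Bas V z w v := ⟨hz, hw, hv, B.a1, B.c1, B.ca, B.b1, B.ba, B.cb.symm,
    fun e => B.cab (by rw [e, ← mul_assoc, zz, one_mul])⟩
  obtain ⟨q, Q, qt⟩ : ∃ q, Tv V K q z w v ∧ q * t * q⁻¹ = t := by
    obtain ⟨k3, -, Q⟩ := T.move h BQ
    generalize k3 * t * k3⁻¹ = q at Q
    rcases hN q Q.mem (by rw [act q z Q.sq, Q.hz, T.hz, Q.hz])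
      (by rw [act q v Q.sq, Q.hw, cmul t, T.hz, T.hv, cmul q, Q.hz, Q.hw, ← mul_assoc, zz, one_mul])
      (by rw [act q w Q.sq, Q.hv, T.hw, cmul q, Q.hz, Q.hv]) with e | e
    · exact ⟨q, Q, e⟩
    have a1 : ∀ y ∈ V, q * w * y * (q * w)⁻¹ = q * y * q⁻¹ := fun y hy => by
      rw [mul_assoc q, comm h hw hy]; group
    refine ⟨q * w, ⟨BQ, mul_mem Q.mem (h.le hw), ?_, by rw [a1 z hz, Q.hz], by rw [a1 w hw, Q.hv],
      by rw [a1 v hv, Q.hw]⟩, ?_⟩
    · calc q * w * (q * w) = q * w * q⁻¹ * (q * q) * w := by group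
        _ = 1 := by rw [Q.hv, Q.sq, mul_one, ww]
    · calc q * w * t * (q * w)⁻¹ = q * (w * (t * 1) * w⁻¹) * q⁻¹ := by group
        _ = t := by rw [cw 1 V.one_mem, mul_one, cmul, e, Q.hz, mul_assoc, zz, mul_one]
  have qi : q⁻¹ = q := inv_eq_of_mul_eq_one_right Q.sq
  have cp : Commute p t := mul_inv_eq_iff_eq_mul.1 pt
  have cq : Commute q t := mul_inv_eq_iff_eq_mul.1 qt
  have a2 : ∀ y : G, p * q * p * q * y * (p * q * p * q)⁻¹ =
      p * (q * (p * (q * y * q⁻¹) * p⁻¹) * q⁻¹) * p⁻¹ := fun y => by group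
  obtain ⟨y, hy, e⟩ := B.same h T.mem (mul_mem (mul_mem (mul_mem P.mem Q.mem) P.mem) Q.mem)
    (by rw [a2, Q.hz, P.hv, Q.hz, P.hv, T.hz])
    (by rw [a2, Q.hw, cmul p z v, P.hv, P.hz, cmul q z v, Q.hz, Q.hw, ← mul_assoc z, zz, one_mul, P.hz,
      T.hv])
    (by rw [a2, Q.hv, P.hw, cmul q v w, Q.hw, Q.hv, cmul p _ w, cmul p z v, P.hv, P.hz, P.hw, T.hw,
      mul_assoc z, ← mul_assoc v, vv, one_mul])
  have c1 : Commute (t * y) t := e ▸ ((cp.mul_left cq).mul_left cp).mul_left cq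
  have c2 : Commute t y := by
    have := (Commute.refl t).inv_left.mul_left c1
    rw [inv_mul_cancel_left] at this
    exact this.symm
  have s1 : p * q * p * q * (p * q * p * q) = 1 := by
    rw [e, c2.symm.mul_mul_mul_comm, T.sq, h.sq y hy, mul_one]
  have s2 : q * (p * q * p * q) * q⁻¹ = p * q * p * q := by
    have : (p * q * p * q)⁻¹ = p * q * p * q := inv_eq_of_mul_eq_one_right s1
    calc q * (p * q * p * q) * q⁻¹ = q * (p * (q * p)) := by group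
      _ = q⁻¹ * (p⁻¹ * (q⁻¹ * p⁻¹)) := by rw [pi, qi]
      _ = _ := by rw [← this]; group
  rw [e, cmul, qt] at s2
  have s3 := mul_left_cancel s2
  refine ⟨p, q, cp, cq, (show Commute t v from mul_inv_eq_iff_eq_mul.1 T.hv).symm,
    by rw [Q.hw, mul_inv_cancel_right], ?_⟩
  rw [pi, qi, e]
  rcases T.fix h hy c2.mul_inv_cancel with r | r | r | r
  · left; rw [r, mul_one]
  · right; rw [r, mul_assoc, zz, mul_one]
  · rw [r, Q.hw] at s3
    exact absurd (by simpa using s3) B.a1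
  · rw [r, cmul, Q.hz, Q.hw, ← mul_assoc, zz, one_mul] at s3
    exact absurd (by simpa using s3) B.a1

end Cfsg.Agent.H31.HV

namespace Cfsg.Agent.CV

open Subgroup Cfsg.Agent.H49 Cfsg.Agent.H31.HV

variable {G : Type*} [Group G] [Finite G] {x s : G} {W : Subgroup G}

theorem Ctx.a3c (h : Ctx x s W) (hW : Nat.card W = 4)
    {u : G} (hu : u ∈ W) (h1 : u ≠ 1) (h2 : A3c u) : False := by
  obtain ⟨K, V, S, H⟩ := h2
  have := h.simple
  have : Fact (Nat.Prime 2) := ⟨Nat.prime_two⟩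
  have uu := h.sq u hu
  have x3 : x ^ 3 = 1 := h.hx ▸ pow_orderOf_eq_one x
  have xK : x ∈ K := by
    rcases S.all x (h.cx u hu).symm with e | e
    · exact e
    · have e2 : (u * x) ^ 4 = x := by
        rw [(h.cx u hu).mul_pow, show 4 = 2 * 2 from rfl, pow_mul u, pow_two u, uu, one_pow, one_mul,
          show 2 * 2 = 3 + 1 from rfl, pow_succ, x3, one_mul]
      exact e2 ▸ pow_mem e 4
  obtain ⟨v, hv, v1, vW⟩ : ∃ v ∈ V, v ≠ 1 ∧ v ∈ W := by
    have e := H18.modEq_cent_prime Nat.prime_three V h.hx (H.norm xK)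
    have e2 : V ⊓ centralizer {x} ≠ ⊥ := fun e3 => by
      rw [e3, H.cardV, card_bot] at e
      omega
    obtain ⟨⟨v, hv, h3⟩, v1⟩ := ne_bot_iff_exists_ne_one.1 e2
    have v1' : v ≠ 1 := fun e => v1 (Subtype.ext e)
    obtain ⟨w, hw, h4⟩ := h.cent v (mem_centralizer_singleton_iff.1 h3)
    have x1 : ∀ y : G, orderOf y = 3 → Commute w y → v ≠ w * y := fun y hy c e => by
      have e4 := H.sq v hv
      rw [e, c.symm.mul_mul_mul_comm, h.sq w hw, one_mul, ← pow_two] at e4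
      have := orderOf_dvd_of_pow_eq_one e4
      rw [hy] at this
      omega
    rcases h4 with e | e | e
    · exact ⟨v, hv, v1', e ▸ hw⟩
    · exact absurd e (x1 x h.hx (h.cx w hw))
    · exact absurd e (x1 x⁻¹ (by rw [orderOf_inv, h.hx]) (h.cx w hw).inv_right)
  have KC : K ≤ 𝒞[u] := fun k hk => mem_cent1.2 (S.comm k hk)
  have CN : ∀ Y ≤ K, K ≤ 𝒩(Y) → 𝒞[u] ≤ 𝒩(Y) := fun Y hY hn g hg => by
    have uY : u ∈ 𝒩(Y) := cent_le_norm Y fun y hy => (S.comm y (hY hy)).eq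
    rcases S.all g (mem_cent1.1 hg) with e | e
    · exact hn e
    · exact (mul_mem_cancel_left uY).1 (hn e)
  have V2 : IsPGroup 2 V := IsPGroup.of_card (n := 3) H.cardV
  have VT : ∀ T, IsSylowOf 2 T 𝒞[u] → V ≤ T := fun T hT =>
    hT.le_of_norm (H.le.trans KC) ((isPi_singleton_iff Nat.prime_two).2 V2)
      (Or.inr (hT.le.trans (CN V H.le H.norm)))
  have tr : ∀ a ∈ V, a ≠ 1 → ∃ k ∈ K, k * a * k⁻¹ = v := fun a ha a1 => by
    obtain ⟨b, c, B⟩ := exists_bas H ha a1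
    obtain ⟨b', c', B'⟩ := exists_bas H hv v1
    obtain ⟨k, hk, e, -⟩ := B.trans H B'
    exact ⟨k, hk, e⟩
  obtain ⟨T, hT, vT⟩ : ∃ T, IsSylowOf 2 T 𝒞[u] ∧ v ∈ 𝒞(T) := by
    obtain ⟨T, hT⟩ := exists_sylowOf 2 𝒞[u]
    have e := inf_center_ne_bot_of_nilpotent
      (((sylowOf_iff Nat.prime_two).1 hT).2.1.isNilpotent) (VT T hT)
      (hT.le.trans (CN V H.le H.norm)) fun e => v1 (by simpa [e] using hv)
    obtain ⟨⟨a, ha, h3⟩, a1⟩ := ne_bot_iff_exists_ne_one.1 e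
    obtain ⟨k, hk, e⟩ := tr a ha fun e => a1 (Subtype.ext e)
    exact ⟨cj k T, hT.cj_of_mem (KC hk), by rw [← cj_centralizer, ← e]; exact conj_mem_cj.2 h3⟩
  have ou : orderOf u = 2 := orderOf_eq_prime (by rw [pow_two, uu]) h1
  have uT : u ∈ T := by
    refine zpowers_le.1 (hT.le_of_norm (zpowers_le.2 (self_mem_cent1 u)) ?_
      (Or.inr (norm_of_cent ((cent_zpowers u).symm ▸ hT.le))))
    exact (isPi_singleton_iff Nat.prime_two).2
      (IsPGroup.of_card (n := 1) (by rw [Nat.card_zpowers, ou]; rfl))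
  have uZ : u ∈ 𝒞(T) := le_cent1_iff.1 hT.le
  have ZV : ∀ c ∈ K, c ∈ 𝒞(T) → c = 1 ∨ c = v := fun c hc hc' => by
    by_contra hn
    push Not at hn
    have cV : c ∈ V := H.cent c hc fun y hy => (hc' y (VT T hT hy)).symm
    obtain ⟨w, B⟩ := exists_third H hv cV v1 hn.1 hn.2
    have l1 : T ⊓ K ≤ K ⊓ 𝒞[v] ⊓ 𝒞[c] := fun y hy =>
      ⟨⟨hy.2, le_cent1_iff.2 vT hy.1⟩, le_cent1_iff.2 hc' hy.1⟩
    have l2 := Set.ncard_le_ncard (orb3_sub H B l1)
    rw [ncard_diff_U, ncard_orb] at l2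
    have l3 : Nat.card ↥(𝒞[w] ⊓ (T ⊓ K)) ≤ 8 := by
      rw [← H.cardV]
      refine card_le_of_le fun k ⟨q1, q2⟩ => B.mem_of_fix H q2.2 ?_ ?_ ?_
      exacts [mul_inv_eq_iff_eq_mul.2 (mem_cent1.1 (l1 q2).1.2),
        mul_inv_eq_iff_eq_mul.2 (mem_cent1.1 (l1 q2).2), mul_inv_eq_iff_eq_mul.2 (mem_cent1.1 q1)]
    have l4 := card_inf_mul_relIndex 𝒞[w] (T ⊓ K)
    have l5 : Nat.card ↥(T ⊓ K) ≤ 32 := l4 ▸ Nat.mul_le_mul l3 l2
    have l6 := ((sylowOf_iff Nat.prime_two).1 (hT.inf_normal KC (CN K le_rfl le_normalizer))).2.2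
    have l7 := card_mul_relIndex (inf_le_right : T ⊓ K ≤ K)
    rw [H.cardK] at l7
    have l8 : 2 ^ 6 ∣ Nat.card ↥(T ⊓ K) :=
      (((Nat.prime_two.coprime_iff_not_dvd.2 l6).pow_left 6).dvd_mul_right).1 (by rw [l7]; norm_num)
    have := Nat.le_of_dvd Nat.card_pos l8
    omega
  have hTG : IsSylowOf 2 T ⊤ := by
    refine sylowOf_of_norm_le hT le_top fun n ⟨_, hn⟩ => mem_cent1.2 ?_
    have e1 : n * u * n⁻¹ ∈ T := conj_mem_of_norm le_rfl hn uT
    have e2 : n * u * n⁻¹ ∈ 𝒞(T) := conj_mem_of_norm (norm_cent le_rfl) hn uZ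
    have e3 : n * u * n⁻¹ ∈ W := by
      rcases S.all _ (mem_cent1.1 (hT.le e1)) with e | e
      · rcases ZV _ e e2 with r | r <;> rw [r]
        exacts [W.one_mem, vW]
      · refine (mul_mem_cancel_left hu).1 ?_
        rcases ZV _ e (mul_mem uZ e2) with r | r <;> rw [r]
        exacts [W.one_mem, vW]
    exact mul_inv_eq_iff_eq_mul.1 (h.nc u hu _ e3 (isConj_iff.2 ⟨n, rfl⟩)).symm
  obtain ⟨P, rfl⟩ := exists_sylow_of_top Nat.prime_two hTG
  have i2 : ((P : Subgroup G) ⊓ K).relIndex P = 2 := by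
    rw [inf_relIndex_left, relIndex, index_eq_two_iff']
    refine ⟨⟨u, uT⟩, fun b => ?_⟩
    by_cases hb : (b : G) ∈ K
    · exact Or.inr ⟨hb, fun e => S.notMem ((mul_mem_cancel_right hb).1 e)⟩
    · exact Or.inl ⟨(S.all b (mem_cent1.1 (hT.le b.2))).resolve_left hb, hb⟩
  have thom : ∀ y ∈ W, y ∈ (P : Subgroup G) → y ∉ K → ∃ g : G, g * y * g⁻¹ ∈ K ∧
      ∃ z v' w, Tv V K (g * y * g⁻¹) z v' w := fun y hy yP yK => by
    have y1 : y ≠ 1 := fun e => yK (e ▸ K.one_mem)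
    rcases S0111.result P _ inf_le_left i2 y (orderOf_eq_prime (by rw [pow_two, h.sq y hy]) y1) yP
      (fun e => yK e.2) with ⟨N, hN, e, -⟩ | ⟨g, -, hg⟩
    · exact absurd e (H20.index_ne_two_of_simple h.nonab N hN)
    refine ⟨g, hg, exists_tv H hg (fun e => ?_) (by rw [← cmul, h.sq y hy]; simp)⟩
    obtain ⟨k, -, e2⟩ := tr _ e (by simpa using y1)
    have e3 := h.nc y hy v vW (isConj_iff.2 ⟨k * g, by rw [← e2]; group⟩)
    exact yK (e3 ▸ H.le hv)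
  obtain ⟨g, -, z, v', w, T1⟩ := thom u hu uT S.notMem
  obtain ⟨g', -, _, _, _, T2⟩ := thom (u * v) (mul_mem hu vW) (mul_mem uT (VT _ hT hv))
    fun e => S.notMem ((mul_mem_cancel_right (H.le hv)).1 e)
  obtain ⟨k, -, T3⟩ := T2.move H T1.bas
  obtain ⟨y, hy, e⟩ := T1.bas.same H T1.mem T3.mem (T3.hz.trans T1.hz.symm)
    (T3.hv.trans T1.hv.symm) (T3.hw.trans T1.hw.symm)
  have nc : ¬ IsConj (g * u * g⁻¹) (g * u * g⁻¹ * y) := fun c => by
    rw [← e] at c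
    have c2 := h.nc u hu (u * v) (mul_mem hu vW) (((isConj_iff.2 ⟨g, rfl⟩).trans c).trans
      (isConj_iff.2 ⟨k * g', by group⟩).symm)
    exact v1 (by simpa using c2)
  have nc2 : ¬ IsConj (g * u * g⁻¹) (g * u * g⁻¹ * v') := fun c => by
    rcases T1.fix' H hy (e ▸ T3.sq) with r | r | r | r <;> rw [r] at nc
    · exact nc (by rw [mul_one])
    · exact nc (isConj_iff.2 ⟨w, by simpa using T1.cw H V.one_mem⟩)
    · exact nc c
    · exact nc (c.trans (isConj_iff.2 ⟨w, T1.cw H T1.bas.hb⟩))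
  obtain ⟨p, q, cp, cq, cv, e1, e2⟩ := core H T1 nc2
  have m1 := spl_comm' S cp cq
  have m2 := spl_comm' S cq cv
  rw [← e1] at m2
  refine S.notMem ?_
  rcases e2 with e2 | e2
  · rw [← e2] at m1
    convert m1 using 1
    group
  · have m3 := mul_mem m1 m2
    rw [show g⁻¹ * (p * q * p⁻¹ * q⁻¹) * g * (g⁻¹ * z * g) = g⁻¹ * (p * q * p⁻¹ * q⁻¹ * z) * g by
      group, ← e2] at m3
    convert m3 using 1
    group

end Cfsg.Agent.CV
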