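import Cfsg.Agent.CV.Basic
import Cfsg.Agent.H35.SmallOrd
import Cfsg.Agent.H88.Count

/-! In a simple group with a Sylow subgroup of order three every involution inverts an element
of order three (principal 3-block). -/

set_option autoImplicit false

namespace Cfsg.Agent.CV

open Subgroup Cfsg.Agent.H35
open scoped commutatorElement

theorem ord_conj {G : Type*} [Group G] {a b : G} (h : IsConj a b) : orderOf b = orderOf a := by
  obtain ⟨g, rfl⟩ := isConj_iff.1 h
  exact orderOf_cj g a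

theorem simple_perf {G : Type*} [Group G] [Finite G] [IsSimpleGroup G]
    (hG : ¬ IsMulCommutative G) : commutator G = ⊤ :=
  (Normal.eq_bot_or_eq_top inferInstance).resolve_left fun h1 => hG ⟨⟨fun a b => by
    have : ⁅a, b⁆ ∈ commutator G := commutator_mem_commutator (mem_top a) (mem_top b)
    rw [h1] at this
    exact commutatorElement_eq_one_iff_mul_comm.1 this⟩⟩

theorem exists_conj_inv {G : Type*} [Group G] [Finite G] [IsSimpleGroup G]
    (hG : ¬ IsMulCommutative G) (h9 : ¬ 9 ∣ Nat.card G) {x a : G} (hx : orderOf x = 3)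
    (ha : orderOf a = 2) : ∃ b, IsConj a b ∧ b * x * b⁻¹ = x⁻¹ := by
  classical
  by_contra hc
  push Not at hc
  obtain ⟨S, rfl⟩ := exists_setup hx h9
  obtain ⟨B, hB⟩ := S.exists_principal
  have i2 : S.V.index = 2 :=
    ((Nat.dvd_prime Nat.prime_two).1 S.index_dvd_pred).resolve_left (B.index_ne_one hB (simple_perf hG))
  have h0 : ∀ i : ZMod 3, i ≠ 0 → ∀ v : S.V, ∑ χ : IrrCharacter G,
      (χ : G → ℂ) a * (χ : G → ℂ) a * (χ : G → ℂ) (S.xp i * (v : S.K)) / (χ : G → ℂ) 1 = 0 := by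
    intro i hi v
    have h1 := H88.card_class_mul a a (S.xp i * (v : S.K))⁻¹
    have : IsEmpty {p : G × G // IsConj a p.1 ∧ IsConj a p.2 ∧ p.1 * p.2 = (S.xp i * (v : S.K))⁻¹} := by
      refine ⟨fun ⟨⟨b, c⟩, hb, hc', e⟩ => hc b hb ?_⟩
      change b * c = _ at e
      have b2 : b * b = 1 := sq_of ((ord_conj hb).trans ha)
      have c2 : c * c = 1 := sq_of ((ord_conj hc').trans ha)
      have e1 : b * (S.xp i * (v : S.K)) * b⁻¹ = (S.xp i * (v : S.K))⁻¹ := by
        have e0 : S.xp i * (v : S.K) = c * b := by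
          rw [← inv_inj, ← e, mul_inv_rev, inv_eq_of_mul_eq_one_right b2, inv_eq_of_mul_eq_one_right c2]
        rw [← e, e0]; group
      have e2 := congrArg (· ^ Nat.card S.K) e1
      simp only [conj_pow, inv_pow, S.xp_mul_pow_card] at e2
      have hj : ∀ j : ZMod 3, j ≠ 0 → j = 1 ∨ j = -1 := by decide
      rcases hj _ (mul_ne_zero hi S.cardK_ne_zero) with e3 | e3 <;> rw [e3] at e2
      · rwa [S.xp_one] at e2
      · rw [S.xp_neg, S.xp_one] at e2
        rw [← inv_inj, ← e2]; group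
    rw [@Nat.card_of_isEmpty _ this, inv_inv] at h1
    have h2 : (Nat.card {x : G // IsConj a x} : ℂ) ≠ 0 := by
      have : Nonempty {x : G // IsConj a x} := ⟨⟨a, IsConj.refl a⟩⟩
      exact_mod_cast Nat.card_pos.ne'
    exact (mul_eq_zero.1 (h1.symm.trans (by simp))).resolve_left (mul_ne_zero h2 h2)
  have h1 : ∀ i : ZMod 3, i ≠ 0 → ∑ χ : IrrCharacter G,
      (χ : G → ℂ) a * (χ : G → ℂ) a / (χ : G → ℂ) 1 * S.psi (fun _ => 1) χ i = 0 := by
    intro i hi
    refine mul_left_cancel₀ (H5.natCard_ne_zero (G := S.V)) ?_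
    rw [mul_zero, ← Finset.sum_eq_zero fun v (_ : v ∈ Finset.univ) => h0 i hi v, Finset.sum_comm,
      Finset.mul_sum]
    refine Finset.sum_congr rfl fun χ _ => ?_
    rw [mul_left_comm, S.card_mul_psi H5.isCharacter_one, Finset.mul_sum]
    exact Finset.sum_congr rfl fun v _ => by ring
  obtain ⟨ψ, hY⟩ := Finset.card_eq_one.1 (show B.Y.card = 1 by have := B.cardY'; rw [i2] at this; omega)
  obtain ⟨χ, hX⟩ := Finset.card_eq_one.1 (show (B.X.erase (triv G)).card = 1 by rw [B.card_erase hB, i2])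
  have hχ := Finset.mem_erase.1 (hX ▸ Finset.mem_singleton_self χ)
  have hψ : ψ ∈ B.Y := hY ▸ Finset.mem_singleton_self ψ
  have sX : ∀ f : IrrCharacter G → ℂ, ∑ φ ∈ B.X, f φ = f (triv G) + f χ := fun f => by
    rw [← Finset.add_sum_erase _ _ hB, hX, Finset.sum_singleton]
  have h2 : ∀ i : ZMod 3, i ≠ 0 → 1 + (χ : G → ℂ) a * (χ : G → ℂ) a / (χ : G → ℂ) 1 * B.δ χ +
      (ψ : G → ℂ) a * (ψ : G → ℂ) a / (ψ : G → ℂ) 1 * S.psi (fun _ => 1) ψ i = 0 := by
    intro i hi
    rw [← h1 i hi, ← Finset.sum_subset (Finset.subset_univ (B.X ∪ B.Y)) fun φ _ hφ => by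
      rw [Finset.mem_union, not_or] at hφ
      rw [B.psi0 φ hφ.1 hφ.2 i hi, mul_zero], Finset.sum_union B.disj, sX, hY, Finset.sum_singleton,
      S.psi_triv, B.psiX χ hχ.2 i hi]
    simp [triv_apply]
  have h3 : S.psi (fun _ => 1) ψ 1 + S.psi (fun _ => 1) ψ 2 = -2 * B.ε := by
    have h := Setup.sum_ech_ne_zero (S.autH fun _ => 1) (B.α ψ)
    rw [S.card_autH_one, i2, show (Finset.univ.erase 0 : Finset (ZMod 3)) = {1, 2} by decide,
      Finset.sum_pair (by decide)] at h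
    rw [B.psiY ψ hψ 1 (by decide), B.psiY ψ hψ 2 (by decide), ← mul_add, h]
    push_cast; ring
  have r1 := B.reg ψ hψ 1 (by simp)
  have r2 := B.reg ψ hψ a (by rw [ha]; norm_num)
  rw [sX, B.δ_triv hB, triv_apply] at r1 r2
  have d1 := H5.degree_ne_zero χ.2
  have d2 := H5.degree_ne_zero ψ.2
  have e1 : (B.ε : ℂ) * B.ε = 1 := by rcases B.ε_sign with h | h <;> simp [h]
  have e2 : (B.δ χ : ℂ) * B.δ χ = 1 := by rcases B.δ_sign χ hχ.2 with h | h <;> simp [h]
  have h4 : 1 + (χ : G → ℂ) a * (χ : G → ℂ) a / (χ : G → ℂ) 1 * B.δ χ -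
      (ψ : G → ℂ) a * (ψ : G → ℂ) a / (ψ : G → ℂ) 1 * B.ε = 0 := by
    linear_combination (h2 1 (by decide) + h2 2 (by decide)) / 2 -
      (ψ : G → ℂ) a * (ψ : G → ℂ) a / (ψ : G → ℂ) 1 * h3 / 2
  have p1 : (ψ : G → ℂ) 1 = B.ε * (1 + B.δ χ * (χ : G → ℂ) 1) := by
    linear_combination B.ε * r1 - (ψ : G → ℂ) 1 * e1
  have p2 : (ψ : G → ℂ) a = B.ε * (1 + B.δ χ * (χ : G → ℂ) a) := by
    linear_combination B.ε * r2 - (ψ : G → ℂ) a * e1
  have h5 : ((χ : G → ℂ) a - (χ : G → ℂ) 1) ^ 2 = 0 := by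
    field_simp at h4
    rw [p1, p2] at h4
    generalize (χ : G → ℂ) a = A at *
    generalize (χ : G → ℂ) 1 = D at *
    rcases B.ε_sign with h | h <;> rcases B.δ_sign χ hχ.2 with h' | h' <;> rw [h, h'] at h4 <;>
      push_cast at h4
    · linear_combination h4
    · linear_combination -h4
    · linear_combination -h4
    · linear_combination h4
  exact ne_one_of ha (simple_faithful hχ.1 a (sub_eq_zero.1 (pow_eq_zero_iff two_ne_zero |>.1 h5)))

end Cfsg.Agent.CV
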