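import Cfsg.Agent.CV.Char
import Cfsg.Agent.H20.SimpleN2

/-! The inductive hypothesis and the existence of the global context. -/

set_option autoImplicit false
set_option linter.unusedSectionVars false

namespace Cfsg.Agent.CV

open Subgroup Cfsg.Agent.H49

variable {G : Type*} [Group G]

/-- The hypothesis inherited by sections. -/
structure Hyp (x : G) : Prop where
  h5 : ¬ 5 ∣ Nat.card G
  h9 : ¬ 9 ∣ Nat.card G
  hx : orderOf x = 3
  six : ∀ g, Commute g x → g ^ 6 = 1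
  ab : ∀ g h, Commute g x → Commute h x → Commute g h
  le : Nat.card 𝒞[x] ≤ 12

theorem card_cent_sub {K : Subgroup G} {x : G} (hx : x ∈ K) :
    Nat.card 𝒞[(⟨x, hx⟩ : K)] = Nat.card ↥(K ⊓ 𝒞[x]) := by
  rw [← card_map_of_injective K.subtype_injective]
  congr 2
  ext g
  exact ⟨fun ⟨k, hk, e⟩ => e ▸ ⟨k.2, mem_cent1.2 (congrArg Subtype.val (mem_cent1.1 hk))⟩,
    fun h => ⟨⟨g, h.1⟩, mem_cent1.2 (Subtype.ext (mem_cent1.1 h.2)), rfl⟩⟩

theorem card_three {x : G} (hx : orderOf x = 3) {W C : Subgroup G} (hW : W ≤ C) (xC : x ∈ C)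
    (sq : ∀ w ∈ W, w * w = 1) (all : ∀ g ∈ C, ∃ w ∈ W, g = w ∨ g = w * x ∨ g = w * x⁻¹) :
    Nat.card C = 3 * Nat.card W := by
  rw [← hx, ← Nat.card_zpowers, mul_comm, ← Nat.card_prod]
  refine (Nat.card_eq_of_bijective (fun p : W × zpowers x =>
    (⟨p.1 * p.2, mul_mem (hW p.1.2) (zpowers_le.2 xC p.2.2)⟩ : C)) ⟨?_, fun ⟨g, hg⟩ => ?_⟩).symm
  · rintro ⟨⟨a, ha⟩, b, hb⟩ ⟨⟨c, hc⟩, d, hd⟩ e
    have e : a * b = c * d := congrArg Subtype.val e
    have e1 : c⁻¹ * a = d * b⁻¹ := by rw [inv_mul_eq_iff_eq_mul, ← mul_assoc, ← e]; group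
    have h1 := sq _ (mul_mem (inv_mem hc) ha)
    have h2 : d * b⁻¹ = 1 := by
      rw [e1] at h1
      rcases mem_zp3 hx (mul_mem hd (inv_mem hb)) with k | k | k <;> rw [k] at h1
      · exact k
      · exact absurd (inv_eq_of_mul_eq_one_right h1) (inv_ne_of hx)
      · exact absurd (inv_eq_of_mul_eq_one_right h1).symm (by simpa using inv_ne_of hx)
    rw [h2, inv_mul_eq_one] at e1
    rw [mul_inv_eq_one] at h2
    subst e1 h2
    rfl
  · obtain ⟨w, hw, e | e | e⟩ := all g hg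
    · exact ⟨(⟨w, hw⟩, 1), Subtype.ext (by simp [e])⟩
    · exact ⟨(⟨w, hw⟩, ⟨x, mem_zpowers x⟩), Subtype.ext e.symm⟩
    · exact ⟨(⟨w, hw⟩, ⟨x⁻¹, inv_mem (mem_zpowers x)⟩), Subtype.ext e.symm⟩

theorem Ctx.card_inf {x s : G} {W H : Subgroup G} (h : Ctx x s W) (hx : x ∈ H) :
    Nat.card ↥(H ⊓ 𝒞[x]) = 3 * Nat.card ↥(H ⊓ W) :=
  card_three h.hx (inf_le_inf_left H fun w hw => mem_cent1.2 (h.cx w hw)) ⟨hx, self_mem_cent1 x⟩
    (fun w hw => h.sq w hw.2) fun g hg => by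
      obtain ⟨w, hw, e⟩ := h.cent g (mem_cent1.1 hg.2)
      refine ⟨w, ⟨?_, hw⟩, e⟩
      have := hg.1
      rcases e with e | e | e <;> rw [e] at this
      exacts [this, (mul_mem_cancel_right hx).1 this, (mul_mem_cancel_right (inv_mem hx)).1 this]

theorem Ctx.card {x s : G} {W : Subgroup G} (h : Ctx x s W) : Nat.card 𝒞[x] = 3 * Nat.card W := by
  simpa using h.card_inf (mem_top x)

variable [Finite G] {x : G}

theorem Ctx.hyp {s : G} {W : Subgroup G} (h : Ctx x s W) (hW : Nat.card W ≤ 4) : Hyp x :=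
  ⟨h.h5, h.h9, h.hx, fun _ => h.six, fun _ _ => h.ab, by rw [h.card]; omega⟩

theorem fuse (h9 : ¬ 9 ∣ Nat.card G) (hx : orderOf x = 3) {w v : G} (hw : Commute w x)
    (hv : Commute v x) (c : IsConj w v) :
    ∃ n, n * w * n⁻¹ = v ∧ (n * x * n⁻¹ = x ∨ n * x * n⁻¹ = x⁻¹) := by
  obtain ⟨g, rfl⟩ := isConj_iff.1 c
  obtain ⟨k, hk, e⟩ := conj3_of h9 (K := 𝒞[g * w * g⁻¹]) (x := g * x * g⁻¹)
    (mem_cent1.2 (hw.symm.map (MulAut.conj g))) (mem_cent1.2 hv.symm) (by rw [orderOf_cj, hx]) hx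
  refine ⟨k * g, ?_, by simpa [mul_assoc] using e⟩
  rw [show k * g * w * (k * g)⁻¹ = k * (g * w * g⁻¹) * k⁻¹ by group, mem_cent1.1 hk]
  group

namespace Hyp

theorem sub (h : Hyp x) {K : Subgroup G} (hx : x ∈ K) : Hyp (⟨x, hx⟩ : K) where
  h5 := fun e => h.h5 (e.trans (card_subgroup_dvd_card K))
  h9 := fun e => h.h9 (e.trans (card_subgroup_dvd_card K))
  hx := by rw [← orderOf_coe, h.hx]
  six := fun g c => Subtype.ext (h.six g (congrArg Subtype.val c))
  ab := fun g k c d => Subtype.ext (h.ab g k (congrArg Subtype.val c) (congrArg Subtype.val d))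
  le := by rw [card_cent_sub]; exact (card_le_of_le inf_le_right).trans h.le

theorem quot (h : Hyp x) (N : Subgroup G) [N.Normal] (h3 : ¬ 3 ∣ Nat.card N) :
    Hyp (QuotientGroup.mk' N x) := by
  have lift : ∀ g, Commute g (QuotientGroup.mk' N x) →
      ∃ c, Commute c x ∧ QuotientGroup.mk' N c = g := fun g hg => by
    have : g ∈ (𝒞[x]).map (QuotientGroup.mk' N) := by
      rw [map_cent_quot N h3 h.hx]; exact mem_cent1.2 hg
    obtain ⟨c, hc, e⟩ := this
    exact ⟨c, mem_cent1.1 hc, e⟩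
  refine ⟨fun e => h.h5 (e.trans (card_quotient_dvd_card N)),
    fun e => h.h9 (e.trans (card_quotient_dvd_card N)), ?_, fun g hg => ?_, fun g k hg hk => ?_, ?_⟩
  · exact orderOf_eq_prime (by rw [← map_pow, pow_three', cube_of h.hx, map_one])
      fun e => h3 (h.hx ▸ N.orderOf_dvd_natCard ((QuotientGroup.eq_one_iff x).1 e))
  · obtain ⟨c, hc, rfl⟩ := lift g hg
    rw [← map_pow, h.six c hc, map_one]
  · obtain ⟨c, hc, rfl⟩ := lift g hg
    obtain ⟨d, hd, rfl⟩ := lift k hk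
    exact (h.ab c d hc hd).map _
  · rw [← map_cent_quot N h3 h.hx]
    exact (Nat.le_of_dvd Nat.card_pos (card_map_dvd _ _)).trans h.le

theorem pow4 (h : Hyp x) {c : G} (hc : Commute c x) : c ^ 4 = 1 ∨ c ^ 4 = x ∨ c ^ 4 = x⁻¹ := by
  by_cases e : c ^ 4 = 1
  · exact .inl e
  obtain ⟨k, hk, e⟩ := conj3_of h.h9 (self_mem_cent1 x) (mem_cent1.2 (hc.pow_left 4)) h.hx
    (orderOf_eq_prime (by rw [← pow_mul, show 4 * 3 = 6 * 2 from rfl, pow_mul, h.six c hc, one_pow]) e)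
  rw [mem_cent1.1 hk, mul_inv_cancel_right] at e
  exact .inr (e.imp Eq.symm fun e => by rw [e, inv_inv])

/-- The Sylow 2-subgroup of `C(x)`. -/
def W (h : Hyp x) : Subgroup G where
  carrier := {w | Commute w x ∧ w * w = 1}
  one_mem' := ⟨Commute.one_left x, mul_one 1⟩
  mul_mem' := fun {a b} ha hb => ⟨ha.1.mul_left hb.1, by
    rw [mul_assoc, ← mul_assoc b, (h.ab b a hb.1 ha.1).eq, mul_assoc a, hb.2, mul_one, ha.2]⟩
  inv_mem' := fun {a} ha => ⟨ha.1.inv_left, by rw [← mul_inv_rev, ha.2, inv_one]⟩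

theorem cube_mem (h : Hyp x) {c : G} (hc : Commute c x) : c ^ 3 ∈ h.W :=
  ⟨hc.pow_left 3, by rw [← pow_add]; exact h.six c hc⟩

theorem eq34 (h : Hyp x) {c : G} (hc : Commute c x) : c = c ^ 3 * c ^ 4 := by
  rw [← pow_add, show 3 + 4 = 6 + 1 from rfl, pow_succ, h.six c hc, one_mul]

theorem cent (h : Hyp x) (g : G) (hg : Commute g x) :
    ∃ w ∈ h.W, g = w ∨ g = w * x ∨ g = w * x⁻¹ := by
  refine ⟨_, h.cube_mem hg, ?_⟩
  have := h.eq34 hg
  rcases h.pow4 hg with e | e | e <;> rw [e] at this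
  exacts [.inl (this.trans (mul_one _)), .inr (.inl this), .inr (.inr this)]

theorem card (h : Hyp x) : Nat.card 𝒞[x] = 3 * Nat.card h.W :=
  card_three h.hx (fun _ hw => mem_cent1.2 hw.1) (self_mem_cent1 x) (fun _ hw => hw.2)
    fun g hg => h.cent g (mem_cent1.1 hg)

theorem exists_ctx [IsSimpleGroup G] (h : Hyp x) (hG : ¬ IsMulCommutative G) :
    ∃ s W, Ctx x s W := by
  classical
  obtain ⟨a, ha⟩ := exists_prime_orderOf_dvd_card' (G := G) 2
    (H20.even_of_not_solvable (H20.not_solvable_of_simple hG)).two_dvd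
  obtain ⟨s, hs, inv⟩ := exists_conj_inv hG h.h9 h.hx ha
  have os : orderOf s = 2 := (ord_conj hs).trans ha
  have s2 := sq_of os
  have inv' : s * x⁻¹ * s⁻¹ = x := by
    have := congrArg Inv.inv inv
    rwa [mul_inv_rev, mul_inv_rev, inv_inv, inv_inv, ← mul_assoc] at this
  have sc : ∀ g, g * x * g⁻¹ = x⁻¹ → Commute (s * g) x := fun g hg =>
    mul_inv_eq_iff_eq_mul.1 (by
      rw [show s * g * x * (s * g)⁻¹ = s * (g * x * g⁻¹) * s⁻¹ by group, hg, inv'])
  have f2 : ∀ t, orderOf t = 2 → ∃ w ∈ h.W, IsConj (s * w) t := fun t ht => by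
    obtain ⟨b, hb, ib⟩ := exists_conj_inv hG h.h9 h.hx ht
    have c := sc b ib
    refine ⟨_, h.cube_mem c, IsConj.trans (isConj_iff.2 ⟨(s * b) ^ 4, ?_⟩) hb.symm⟩
    have e : s * (s * b) ^ 4 * s⁻¹ = ((s * b) ^ 4)⁻¹ := by
      rcases h.pow4 c with e | e | e <;> rw [e]
      exacts [by group, inv, inv'.trans (inv_inv x).symm]
    have e0 : b = s * (s * b) := by rw [← mul_assoc, s2, one_mul]
    have e6 := h.six _ c
    generalize s * b = d at *
    rw [e0, show d ^ 4 = s * (d ^ 4)⁻¹ * s⁻¹ by rw [← inv_inj, mul_inv_rev, mul_inv_rev, inv_inv,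
      inv_inv, ← mul_assoc, e]]
    nth_rw 2 [show s * (d ^ 4)⁻¹ * s⁻¹ = d ^ 4 by rw [← inv_inj, mul_inv_rev, mul_inv_rev, inv_inv,
      inv_inv, ← mul_assoc, e]]
    calc _ = s * (d * (d ^ 6)⁻¹) := by group
      _ = _ := by rw [e6, inv_one, mul_one]
  have nW : ∀ w ∈ h.W, s * w * s⁻¹ ∈ h.W := fun w hw => ⟨by
    have := hw.1.inv_right.map (MulAut.conj s)
    rwa [MulAut.conj_apply, MulAut.conj_apply, inv'] at this,
    by simpa [mul_assoc] using congrArg (MulAut.conj s) hw.2⟩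
  have s1 : s⁻¹ = s := inv_eq_of_mul_eq_one_right s2
  have fix : ∀ w ∈ h.W, ∀ v ∈ h.W, Commute w s → IsConj w v → w = v := fun w hw v hv c k => by
    obtain ⟨n, rfl, e | e⟩ := fuse h.h9 h.hx hw.1 hv.1 k
    · rw [(h.ab n w (mul_inv_eq_iff_eq_mul.1 e) hw.1).eq, mul_inv_cancel_right]
    · have e1 := (h.ab _ w (sc n e) hw.1).eq
      have e0 : n = s * (s * n) := by rw [← mul_assoc, s2, one_mul]
      rw [e0, mul_assoc s, e1, ← mul_assoc, ← c.eq]; group
  have cs : ∀ w ∈ h.W, Commute w s := fun w hw => by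
    by_contra hc
    have hw' := nW w hw
    have c1 := (h.ab _ _ hw.1 hw'.1).eq
    have w1 : w⁻¹ = w := inv_eq_of_mul_eq_one_right hw.2
    have n1 : s * w * s⁻¹ ≠ w := fun e => hc (mul_inv_eq_iff_eq_mul.1 e).symm
    have n2 : w ≠ 1 := fun e => hc (e ▸ Commute.one_left s)
    have n3 : s * w * s⁻¹ ≠ 1 := fun e => n2 (by simpa using e)
    have n4 : w * (s * w * s⁻¹) ≠ 1 := fun e => n1 ((eq_inv_of_mul_eq_one_right e).trans w1)
    have c0 : Commute (w * (s * w * s⁻¹)) s := by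
      change _ = _
      nth_rw 2 [c1]
      rw [s1, mul_assoc w, mul_assoc (s * w), s2, mul_one, ← mul_assoc s, ← mul_assoc s, ← mul_assoc s,
        s2, one_mul, mul_assoc]
    have key : ∀ t, orderOf t = 2 → IsConj s t := fun t ht => by
      obtain ⟨v, hv, k⟩ := f2 t ht
      have v2 := sq_of ((ord_conj k.symm).trans ht)
      have cv : s * v * s⁻¹ = v := by
        rw [s1, eq_inv_of_mul_eq_one_left ((mul_assoc _ _ _).trans v2), inv_eq_of_mul_eq_one_right hv.2]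
      by_cases e : v = 1
      · simpa [e] using k
      by_cases e' : v = w * (s * w * s⁻¹)
      · refine IsConj.trans (isConj_iff.2 ⟨w, ?_⟩) k
        rw [e', c1, w1, s1, ← mul_assoc s, ← mul_assoc s, ← mul_assoc s, s2, one_mul]
      have n5 : v ≠ w := fun e => n1 (e ▸ cv)
      have n6 : v ≠ s * w * s⁻¹ := fun e => n1 (by
        rw [← e, ← cv, e, s1, ← mul_assoc s, ← mul_assoc s, s2, one_mul, mul_assoc, s2, mul_one])
      have h4 := h.card
      have h5 := h.le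
      have h6 : ({v, 1, w, s * w * s⁻¹, w * (s * w * s⁻¹)} : Set G).ncard ≤ Nat.card h.W :=
        Set.ncard_le_ncard (by
          simp only [Set.insert_subset_iff, Set.singleton_subset_iff]
          exact ⟨hv, one_mem _, hw, hw', mul_mem hw hw'⟩) (Set.toFinite _)
      rw [Set.ncard_insert_of_notMem (by simp [e, e', n5, n6]),
        Set.ncard_insert_of_notMem (by simp only [Set.mem_insert_iff, Set.mem_singleton_iff]; push Not; exact ⟨n2.symm, n3.symm, n4.symm⟩),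
        Set.ncard_insert_of_notMem (by simp only [Set.mem_insert_iff, Set.mem_singleton_iff]; push Not; exact ⟨n1.symm, fun e => n3 (left_eq_mul.1 e)⟩),
        Set.ncard_pair (fun e => n2 (right_eq_mul.1 e))] at h6
      omega
    have h0 := mul_mem hw hw'
    exact n3 (mul_eq_left.1 (fix _ h0 w hw c0 ((key _ (ord2 n4 h0.2)).symm.trans (key _ (ord2 n2 hw.2)))))
  exact ⟨s, h.W, inferInstance, hG, h.h5, h.h9, h.hx, os, inv, fun _ hw => hw.2, fun _ hw => hw.1, cs,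
    h.cent, fun w hw v hv => fix w hw v hv (cs w hw), f2⟩

end Hyp

end Cfsg.Agent.CV
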