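import Cfsg.Agent.CV.Mod1
import Cfsg.Agent.H49.Hall

/-! The structure of the normal 2-subgroup (see notes/CV.md). -/

set_option autoImplicit false

namespace Cfsg.Agent.CV

open Subgroup Cfsg.Agent.H49

theorem trans7 {G : Type*} [Group G] [Finite G] {K : Subgroup G} (hK : K.Normal) (h8 : Nat.card K = 8)
    {y : G} (hy : orderOf y = 7) (hf : K ⊓ 𝒞[y] = ⊥) {w q : G} (hw : w ∈ K) (w1 : w ≠ 1) (hq : q ∈ K)
    (q1 : q ≠ 1) : ∃ g, g * w * g⁻¹ = q := by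
  classical
  have h7 : Nat.card (zpowers y) = 7 := (Nat.card_zpowers y).trans hy
  have h0 := (inf_eq_bot_or_le_of_prime_card (h7 ▸ by norm_num) 𝒞[w]).resolve_right fun e =>
    w1 (hf.le ⟨hw, mem_cent1_comm.1 (e (mem_zpowers y))⟩)
  let f : zpowers y → {k : K // k ≠ 1} := fun g => ⟨⟨g * w * g⁻¹, hK.conj_mem w hw g⟩,
    fun e => w1 (by simpa using congrArg Subtype.val e)⟩
  have h1 : Function.Injective f := fun a b e => by
    have e1 : (a : G) * w * (a : G)⁻¹ = b * w * (b : G)⁻¹ := congrArg (fun z => (z.1 : G)) e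
    refine Subtype.ext (inv_mul_eq_one.1 (h0.le ⟨(a⁻¹ * b).2, mem_cent1.2 ?_⟩))
    calc (a : G)⁻¹ * b * w = a⁻¹ * (b * w * (b : G)⁻¹) * b := by simp [mul_assoc]
      _ = _ := by rw [← e1]; simp [mul_assoc]
  have := Fintype.ofFinite K
  obtain ⟨g, hg⟩ := (h1.bijective_of_nat_card_le (by
    rw [h7, Nat.card_eq_fintype_card, Fintype.card_subtype_compl, ← Nat.card_eq_fintype_card, h8]
    simp)).2 ⟨⟨q, hq⟩, fun e => q1 (congrArg Subtype.val e)⟩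
  exact ⟨g, congrArg (fun z => (z.1 : G)) hg⟩

variable {M : Type*} [Group M] [Finite M] {x s y : M}

theorem Loc.mod13 {L : Type*} [Group L] {π : M →* L} (h : Loc π x s) (T : Tg L 13)
    (two : IsPGroup 2 π.ker) (c : Nat.card ↥(π.ker ⊓ centralizer ({x} : Set M)) = 2) :
    Nat.card π.ker = 2 := by
  obtain ⟨y, hy⟩ := h.exists_y T two
  have W := h.wie' T hy inferInstance two
  have d := card_dvd_of_le (inf_le_inf_left π.ker (inf_le_right : 𝒞[y] ⊓ 𝒞[x] ≤ _))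
  rw [c] at W d
  rcases (Nat.dvd_prime Nat.prime_two).1 d with e | e <;> rw [e] at W
  · have m := card_fix_mod (r := 13) (fun d hd => π.normal_ker.conj_mem d hd y) hy.pow
    obtain ⟨k, hk⟩ := IsPGroup.iff_card.1 (two.to_inf_left (K := 𝒞[y]))
    have : 13 ∣ 2 ^ k := by unfold Nat.ModEq at m; omega
    exact absurd ((by norm_num : Nat.Prime 13).dvd_of_dvd_pow this) (by norm_num)
  · rw [← c, inf_eq_left.2 (h.cen_x T inferInstance (ne_one_of (n := 11) hy.oy)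
      (inf_eq_left.1 (eq_of_le_of_card_ge inf_le_left (by omega))))]

variable {π : M →* L7}

theorem zq_ne (two : IsPGroup 2 π.ker) {n : ℕ} (c : Nat.card ↥(π.ker ⊓ 𝒞[x]) = n + 2) :
    π.ker ⊓ 𝒞(π.ker) ≠ ⊥ := center_ne_bot_of_nilpotent two.isNilpotent fun e => by
  rw [e, bot_inf_eq, card_bot] at c; omega

omit [Finite M] in
theorem z_bot {N : Subgroup M} (h : N ⊓ 𝒞[y] = ⊥) : N ⊓ center M = ⊥ :=
  eq_bot_iff.2 (h ▸ inf_le_inf_left _ (center_le_centralizer _))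

theorem Loc.cN (h : Loc π x s) (two : IsPGroup 2 π.ker) {N : Subgroup M} (hN : N.Normal) (n0 : N ≠ ⊥)
    (hle : N ≤ π.ker) : Nat.card ↥(N ⊓ 𝒞[x]) ≠ 1 ∧
      Nat.card ↥(N ⊓ 𝒞[x]) ∣ Nat.card ↥(π.ker ⊓ 𝒞[x]) :=
  ⟨fun e => h.c1 tg7 hN (two.to_le hle) n0 (card_eq_one.1 e), card_dvd_of_le (inf_le_inf_right _ hle)⟩

theorem Loc.mod2y (h : Loc π x s) (two : IsPGroup 2 π.ker) (hy : Yd π 7 x y)
    (c : Nat.card ↥(π.ker ⊓ 𝒞[x]) = 2) :
    Nat.card π.ker = 2 ∨ (Nat.card π.ker = 8 ∧ (∀ q ∈ π.ker, q * q = 1) ∧ π.ker ⊓ 𝒞[y] = ⊥) := by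
  obtain ⟨N, hN, hle, n0, sq, hc⟩ := h.minN two hy inferInstance (zq_ne two c) le_rfl (by omega)
  obtain ⟨c1, c2⟩ := h.cN two hN n0 (hle.trans inf_le_left)
  obtain rfl := h.eq_ker tg7 two (hle.trans inf_le_left)
    ((((Nat.dvd_prime Nat.prime_two).1 (c ▸ c2)).resolve_left c1).trans c.symm)
  exact hc.imp (·.2) fun e => ⟨by rw [e.1, c]; rfl, sq, e.2⟩

theorem Loc.mod2 {π : M →* L7} (h : Loc π x s) (two : IsPGroup 2 π.ker)
    (c : Nat.card ↥(π.ker ⊓ centralizer ({x} : Set M)) = 2) :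
    Nat.card π.ker = 2 ∨ (Nat.card π.ker = 8 ∧ (∀ q ∈ π.ker, q * q = 1) ∧
      (∀ g, (∀ q ∈ π.ker, Commute g q) → g ∈ π.ker) ∧ π.ker ⊓ center M = ⊥) := by
  obtain ⟨y, hy⟩ := h.exists_y tg7 two
  exact (h.mod2y two hy c).imp id fun e =>
    ⟨e.1, e.2.1, h.selfc tg7 inferInstance le_rfl (by omega), z_bot e.2.2⟩

omit [Finite M] in
theorem Loc.sq_fix (h : Loc π x s) (two : IsPGroup 2 π.ker) {g : M} (hg : g ∈ π.ker)
    (hc : Commute g x) : g * g = 1 := by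
  obtain ⟨n, hn⟩ := two ⟨g * g, mul_mem hg hg⟩
  have h2 : (2 ^ n).gcd 3 = 1 := Nat.Coprime.pow_left _ (by norm_num)
  have h3 : (g * g) ^ 2 ^ n = 1 := congrArg Subtype.val hn
  have h4 : (g * g) ^ 3 = 1 := by rw [← pow_two, ← pow_mul]; exact h.six g hc
  exact ((pow_gcd_eq_one.2 ⟨h3, h4⟩).symm.trans (by rw [h2, pow_one])).symm

theorem Loc.h16 (h : Loc π x s) (sq : ∀ q ∈ π.ker, q * q = 1) (c : Nat.card ↥(π.ker ⊓ 𝒞[x]) = 4)
    (h64 : Nat.card π.ker = 64) (g : M) (hg : g ∉ π.ker) (h2 : g * g ∈ π.ker) :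
    Nat.card ↥(π.ker ⊓ 𝒞[g]) = 16 := by
  have F := (fixM sq h.xx h.ss h.inv fun n hn c => h.cs n c (sq n hn)).1
  rw [c, h64] at F
  have hc : π.ker ≤ 𝒞(π.ker) := fun a ha b hb => comm_of_inv (sq b hb) (sq a ha) (sq _ (mul_mem hb ha))
  have og : orderOf (π g) = 2 := ord2 hg (by rw [← map_mul]; exact h2)
  obtain ⟨l1, e1⟩ := isConj_iff.1 (tg7.conj2 _ _ h.ops og)
  obtain ⟨l2, e2⟩ := isConj_iff.1 (tg7.conj2 _ _ og h.ops)
  rw [le_antisymm (card_cent_le inferInstance hc h.surj (e2.symm ▸ mem_zpowers (π s) :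
      π s ∈ zpowers (l2 * π g * l2⁻¹))) (card_cent_le inferInstance hc h.surj
      (e1.symm ▸ mem_zpowers (π g) : π g ∈ zpowers (l1 * π s * l1⁻¹)))]
  exact Nat.pow_left_injective two_ne_zero F

theorem Loc.exists_V (h : Loc π x s) (hy : Yd π 7 x y) (sq : ∀ q ∈ π.ker, q * q = 1)
    (h16 : Nat.card π.ker = 16) (h2 : Nat.card ↥(π.ker ⊓ 𝒞[y]) = 2) :
    ∃ V : Subgroup M, V.Normal ∧ V ≤ π.ker ∧ π.ker ⊓ 𝒞[y] ⊓ V = ⊥ ∧ Nat.card V = 8 := by
  have hc : π.ker ≤ 𝒞(π.ker) := fun a ha b hb => comm_of_inv (sq b hb) (sq a ha) (sq _ (mul_mem hb ha))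
  have hn : ∀ A : Subgroup M, A ≤ 𝒩(π.ker) := fun A => le_top.trans (normal_iff_top_le_norm.1 inferInstance)
  have D := coprime_abelian_dp (abelian_iff.2 hc) (hn (zpowers y)) (by
    rw [Nat.card_zpowers, h16]
    exact Nat.Coprime.coprime_dvd_left (orderOf_dvd_of_pow_eq_one hy.pow) (by norm_num))
  have h3 := D.card
  have h4 := D.right_le
  have h5 := norm_commutator (hn _) (zpowers_le.2 hy.norm) (mem_zpowers x)
  have h6 := le_norm_commutator_right π.ker (zpowers y) (mem_zpowers y)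
  rw [cent_zpowers] at D h3
  generalize ⁅π.ker, zpowers y⁆ = V at *
  replace h3 : Nat.card V = 8 := by rw [h2] at h3; omega
  have h7 : V.relIndex π.ker = 2 := by have := card_mul_relIndex h4; rw [h3] at this; omega
  refine ⟨V, normal_iff_top_le_norm.2 (Loc.gen42 ((hc.trans (cent_anti h4)).trans (cent_le_norm V))
    (mem_normalizer_fintype fun v hv => ?_) h5 h6 h.ops h.opx hy.oy).ge, h4, D.2.1, h3⟩
  obtain ⟨m, hm, e⟩ := (fixM sq h.xx h.ss h.inv fun n hn c => h.cs n c (sq n hn)).2 v (h4 hv)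
  have := (mul_mem_iff_of_index_two h7 (a := ⟨m⁻¹, inv_mem hm⟩)
    (b := ⟨_, π.normal_ker.conj_mem m hm x⟩)).2 (inv_mem_iff.trans (mem_normalizer_iff.1 h5 m))
  rw [mem_subgroupOf, coe_mul, e] at this
  simpa using mul_mem hv this

theorem Loc.mod4 {π : M →* L7} (h : Loc π x s) (two : IsPGroup 2 π.ker)
    (c : Nat.card ↥(π.ker ⊓ centralizer ({x} : Set M)) = 4) :
    (∀ q ∈ π.ker, q * q = 1) ∧
    ((π.ker ≤ center M ∧ Nat.card π.ker = 4) ∨
      (∃ t ∈ π.ker, ∃ V : Subgroup M, t ∈ center M ∧ V.Normal ∧ V ≤ π.ker ∧ t ∉ V ∧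
        Nat.card V = 8 ∧ Nat.card π.ker = 16 ∧ π.ker ⊓ center M = zpowers t ∧
        ∀ g, (∀ v ∈ V, Commute g v) → g ∈ π.ker) ∨
      (Nat.card π.ker = 64 ∧ (∀ g, (∀ q ∈ π.ker, Commute g q) → g ∈ π.ker) ∧
        π.ker ⊓ center M = ⊥ ∧ ∀ g ∉ π.ker, g * g ∈ π.ker →
          Nat.card ↥(π.ker ⊓ centralizer ({g} : Set M)) = 16)) := by
  obtain ⟨y, hy⟩ := h.exists_y tg7 two
  obtain ⟨N, hN, hle, n0, sq, hc⟩ : ∃ N : Subgroup M, N.Normal ∧ N ≤ π.ker ⊓ 𝒞(π.ker) ∧ N ≠ ⊥ ∧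
      (∀ n ∈ N, n * n = 1) ∧ ((N ≤ center M ∧ Nat.card N = 2) ∨
        (Nat.card N = Nat.card ↥(N ⊓ 𝒞[x]) ^ 3 ∧ π.ker ⊓ center M = ⊥)) := by
    by_cases hz : π.ker ⊓ center M = ⊥
    · obtain ⟨N, hN, hle, n0, sq, hc⟩ := h.minN two hy inferInstance (zq_ne two c) le_rfl (by omega)
      exact ⟨N, hN, hle, n0, sq, hc.imp id fun e => ⟨e.1, hz⟩⟩
    · have k := inf_le_inf_left π.ker (center_le_centralizer (π.ker : Set M))
      obtain ⟨N, hN, hle, n0, sq, hc⟩ := h.minN two hy inferInstance hz k (by omega)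
      exact ⟨N, hN, hle.trans k, n0, sq, Or.inl (hc.resolve_right fun e =>
        n0 (inf_eq_left.2 (hle.trans inf_le_right) ▸ z_bot e.2))⟩
  have h1 := hle.trans inf_le_left
  have h2 : ∀ n ∈ N, ∀ q ∈ π.ker, q * n = n * q := fun n hn => (hle hn).2
  obtain ⟨c1, c2⟩ := h.cN two hN n0 h1
  have fin : (∀ q ∈ π.ker, q * q = 1) → Nat.card π.ker = 64 → π.ker ⊓ center M = ⊥ → _ :=
    fun a b d => And.intro b (And.intro (h.selfc tg7 inferInstance le_rfl (by omega))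
      (And.intro d (h.h16 a c b)))
  have c3 : Nat.card ↥(N ⊓ 𝒞[x]) ≤ Nat.card N := card_le_of_le inf_le_left
  by_cases c4 : Nat.card ↥(N ⊓ 𝒞[x]) = 4
  · obtain rfl := h.eq_ker tg7 two h1 (c4.trans c.symm)
    have e := hc.resolve_left fun e => by omega
    exact ⟨sq, Or.inr (Or.inr (fin sq (by rw [e.1, c4]; rfl) e.2))⟩
  replace c2 : Nat.card ↥(N ⊓ 𝒞[x]) = 2 := by
    have := Nat.le_of_dvd (by omega) c2
    rw [c] at c2 this
    generalize Nat.card ↥(N ⊓ 𝒞[x]) = k at *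
    interval_cases k <;> omega
  rw [c2] at hc
  have q1 := h.card_quo h1 h1 (normal_iff_top_le_norm.1 inferInstance (mem_top x))
  have q2 := (h.quo N h1).mod2y (Loc.ker_quo h1 ▸ two.map _) (hy.quo N h1)
    (by rw [Loc.ker_quo]; rw [c2] at q1; omega)
  have q3 := card_mul_relIndex h1
  have q4 : ∀ g, QuotientGroup.mk' N g = 1 ↔ g ∈ N := QuotientGroup.eq_one_iff
  rw [Loc.ker_quo, ← relIndex_ker, QuotientGroup.ker_mk'] at q2
  rcases q2 with q2 | ⟨q2, -, q5⟩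
  · rcases hc with ⟨-, e⟩ | ⟨e, z⟩
    · have := inf_eq_left.1 (eq_of_le_of_card_ge (inf_le_left : π.ker ⊓ 𝒞[x] ≤ _) (by rw [c, ← q3, e, q2]))
      exact ⟨fun q hq => h.sq_fix two hq (mem_cent1.1 (this hq)), Or.inl ⟨h.cen_all tg7 inferInstance
        (fun a ha b hb => h.ab b a (mem_cent1.1 (this hb)) (mem_cent1.1 (this ha))) h.x_ker this,
        by rw [← q3, e, q2]⟩⟩
    · exfalso
      have W := h.wie' tg7 hy inferInstance two
      obtain ⟨t, ⟨t0, t2, t3⟩, t1⟩ := ne_bot_iff_exists.1 fun e' : π.ker ⊓ (𝒞[y] ⊓ 𝒞[x]) = ⊥ => by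
        rw [e', card_bot, c, ← q3, e, q2] at W; omega
      have tc : π.ker ≤ 𝒞[t] := fun q hq => mem_cent1.2 (by
        by_cases a : t ∈ N
        · exact h2 t a q hq
        by_cases b : q ∈ N
        · exact (h2 q b t t0).symm
        have := h2 (t⁻¹ * q) ((mul_mem_iff_of_index_two q2 (a := ⟨t⁻¹, inv_mem t0⟩) (b := ⟨q, hq⟩)).2
          (iff_of_false (fun e => a (inv_mem_iff.1 e)) b)) t t0
        rw [mul_inv_cancel_left, mul_assoc, eq_inv_mul_iff_mul_eq] at this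
        exact this.symm)
      have := Loc.gen42 tc (mem_cent1.2 (h.cs t (mem_cent1.1 t3) (h.sq_fix two t0 (mem_cent1.1 t3))).symm)
        (mem_cent1_comm.1 t3) (mem_cent1_comm.1 t2) h.ops h.opx hy.oy
      exact t1 (z.le ⟨t0, mem_center_iff.2 fun g => mem_cent1.1 (this.ge (mem_top g))⟩)
  · obtain ⟨w, ⟨w0, w2⟩, w1⟩ := SetLike.not_le_iff_exists.1 fun e : π.ker ⊓ 𝒞[x] ≤ N => by
      have := card_le_of_le (le_inf e inf_le_right); omega
    have sq' : ∀ q ∈ π.ker, q * q = 1 := fun q hq => by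
      by_cases b : q ∈ N
      · exact sq q b
      obtain ⟨g, hg⟩ := trans7 ((inferInstance : π.ker.Normal).map _ (QuotientGroup.mk'_surjective N))
        (by rw [← relIndex_ker, QuotientGroup.ker_mk', q2])
        (orderOf_eq_prime (hp := ⟨by norm_num⟩) (hy.quo N h1).pow fun e =>
          ne_one_of (n := 5) hy.oy (h1 ((q4 y).1 e))) q5 (mem_map_of_mem _ w0) (mt (q4 w).1 w1)
        (mem_map_of_mem _ hq) (mt (q4 q).1 b)
      obtain ⟨g, rfl⟩ := QuotientGroup.mk'_surjective N g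
      have e : (g * w * g⁻¹)⁻¹ * q ∈ N := (q4 _).1 (by
        simp only [map_mul, map_inv, hg, inv_mul_cancel])
      rw [← mul_inv_cancel_left (g * w * g⁻¹) q, ← Commute.mul_mul_mul_comm
        (h2 _ e _ (π.normal_ker.conj_mem w w0 g)), sq _ e, conj_mul, h.sq_fix two w0 (mem_cent1.1 w2)]
      group
    refine ⟨sq', Or.inr ?_⟩
    rcases hc with ⟨z, e⟩ | ⟨e, z⟩
    · have hyN : π.ker ⊓ 𝒞[y] = N := le_antisymm (fun q hq => (q4 q).1 (q5.le ⟨mem_map_of_mem _ hq.1,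
        mem_cent1.2 (congrArg (QuotientGroup.mk' N) (mem_cent1.1 hq.2))⟩))
        (le_inf h1 (z.trans (center_le_centralizer _)))
      obtain ⟨V, v1, v2, v3, v4⟩ := h.exists_V hy sq' (by rw [← q3, e, q2]) (by rw [hyN, e])
      obtain ⟨t, ht, t1⟩ := ne_bot_iff_exists.1 n0
      refine Or.inl ⟨t, h1 ht, V, z ht, v1, v2, fun a => t1 (v3.le ⟨hyN.ge ht, a⟩), v4,
        by rw [← q3, e, q2], ?_, h.selfc tg7 v1 v2 (by omega)⟩
      rw [eq_of_le_of_card_ge (zpowers_le.2 ht) (by rw [e, Nat.card_zpowers, ord2 t1 (sq t ht)])]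
      exact le_antisymm (hyN ▸ inf_le_inf_left _ (center_le_centralizer _)) (le_inf h1 z)
    · exact Or.inr (fin sq' (by rw [← q3, e, q2]; rfl) z)

end Cfsg.Agent.CV
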