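import Cfsg.Agent.CV.Defs
import Cfsg.Agent.H12.CV8a
import Cfsg.Agent.S3103
import Cfsg.Agent.S1232
import Cfsg.Agent.S0111
import Cfsg.Agent.H85.SecRank
import Cfsg.Agent.H14.Mathieu

/-! The case N(V) = 2^3.L3(2) (see notes/CV.md). -/

set_option autoImplicit false
set_option linter.unusedSectionVars false
set_option linter.unusedVariables false
set_option linter.unusedSimpArgs false

namespace Cfsg.Agent.CV

open Cfsg Cfsg.Agent.H49 Cfsg.Agent.NO6 Cfsg.Agent.SC6 Subgroup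

namespace V8x

theorem card_six {Y : Type*} [Group Y] [Finite Y] (hs : Group.IsSolvable Y) (h2 : pCore 2 Y = ⊥)
    (hd : Nat.card Y ∣ 20160) (h5 : ¬ 5 ∣ Nat.card Y) (h9 : ¬ 9 ∣ Nat.card Y)
    (h21 : ∀ g : Y, orderOf g ≠ 21) {a b : Y} (ha : orderOf a = 3) (hb : b * a * b⁻¹ = a⁻¹) :
    Nat.card Y = 6 := by
  classical
  have aa : a * a = a⁻¹ := (inv_eq_of_mul_eq_one_right (by rw [← cube_of ha, pow_three])).symm
  have cyc : ∀ P : Subgroup Y, (Nat.card P).Prime → ⊤ ≤ 𝒩(P) → a ∈ 𝒞(P) := fun P hP hn y hy => by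
    have := Fact.mk hP
    have := isCyclic_of_prime_card (α := P) rfl
    have : P.Normal := normal_iff_top_le_norm.2 hn
    have k := MonoidHom.mem_ker.2 (show MulAut.conjNormal (H := P) a = 1 by
      have e : a = b * a * b⁻¹ * a⁻¹ := by rw [hb, ← mul_inv_rev, aa, inv_inv]
      rw [e, map_mul, map_mul, map_mul, IsCyclic.mulAutMulEquiv P |>.injective.eq_iff.1
        (show IsCyclic.mulAutMulEquiv P (MulAut.conjNormal b * MulAut.conjNormal a) =
          IsCyclic.mulAutMulEquiv P (MulAut.conjNormal a * MulAut.conjNormal b) by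
            rw [map_mul, map_mul, mul_comm]), map_inv, map_inv]
      group)
    have := congrArg Subtype.val (DFunLike.congr_fun (MonoidHom.mem_ker.1 k) ⟨y, hy⟩)
    exact (mul_inv_eq_iff_eq_mul.1 this).symm
  have hF := (fittingOf (⊤ : Subgroup Y)).card_subgroup_dvd_card
  have n2 : ¬ 2 ∣ Nat.card (fittingOf (⊤ : Subgroup Y)) := by
    have := ((sylowOf_iff pr2).1 (sylowOf_pcore_fittingOf 2 (⊤ : Subgroup Y))).2.2
    rwa [← pCore_eq_piCoreOf_top pr2, h2, relIndex_bot_left] at this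
  have n7 : ¬ 7 ∣ Nat.card (fittingOf (⊤ : Subgroup Y)) := fun k => by
    have p7 : Nat.Prime 7 := by norm_num
    have := Fact.mk p7
    obtain ⟨l, t, i⟩ := (sylowOf_iff p7).1 (sylowOf_pcore_fittingOf 7 (⊤ : Subgroup Y))
    obtain ⟨n, hn⟩ := IsPGroup.iff_card.1 t
    have e1 := (piCoreOf {7} (⊤ : Subgroup Y)).card_subgroup_dvd_card.trans hd
    have e2 := card_mul_relIndex l
    have e3 : Nat.card (piCoreOf {7} (⊤ : Subgroup Y)) = 7 := by
      rw [hn] at e1 e2 ⊢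
      rcases n with _ | _ | n
      · rw [pow_zero, one_mul] at e2
        exact (i (e2 ▸ k)).elim
      · rfl
      · exact absurd ((pow_dvd_pow 7 (by omega : 2 ≤ n + 1 + 1)).trans e1) (by norm_num)
    obtain ⟨y, hy⟩ := exists_prime_orderOf_dvd_card' 7 e3.symm.dvd
    have c := cyc _ (by rw [e3]; exact p7) (le_norm_piCoreOf _ _) y y.2
    rw [← orderOf_coe] at hy
    refine h21 (y * a) ?_
    rw [Commute.orderOf_mul_eq_mul_orderOf_of_coprime c (by rw [hy, ha]; norm_num), hy, ha]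
  have e3 : Nat.card (fittingOf (⊤ : Subgroup Y)) ∣ 3 := by
    have k1 := hF.trans hd
    have k5 : ¬ 5 ∣ Nat.card (fittingOf (⊤ : Subgroup Y)) := fun k => h5 (k.trans hF)
    have k9 : ¬ 9 ∣ Nat.card (fittingOf (⊤ : Subgroup Y)) := fun k => h9 (k.trans hF)
    generalize Nat.card (fittingOf (⊤ : Subgroup Y)) = n at *
    have k2 : n ∣ 9 := by
      rw [show 20160 = 2 ^ 6 * (5 * (7 * 9)) by norm_num] at k1
      exact ((Nat.Prime.coprime_iff_not_dvd (by norm_num)).2 n7).symm.dvd_of_dvd_mul_left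
        (((Nat.Prime.coprime_iff_not_dvd (by norm_num)).2 k5).symm.dvd_of_dvd_mul_left
        ((((Nat.Prime.coprime_iff_not_dvd pr2).2 n2).symm.pow_right 6).dvd_of_dvd_mul_left k1))
    have := Nat.le_of_dvd (by norm_num) k2
    interval_cases n <;> omega
  have cF : 𝒞(fittingOf (⊤ : Subgroup Y)) ≤ fittingOf ⊤ := fun g hg =>
    cent_fittingOf_le (Group.isSolvable_of_isSolvable_injective (f := (⊤ : Subgroup Y).subtype)
      (subtype_injective _)) ⟨mem_top g, hg⟩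
  have a1 : a ≠ 1 := fun e => by simp [e] at ha
  have e4 : Nat.card (fittingOf (⊤ : Subgroup Y)) = 3 :=
    ((Nat.dvd_prime pr3).1 e3).resolve_left fun k => by
      rw [card_eq_one] at k
      exact a1 (mem_bot.1 (k ▸ cF (k.symm ▸ le_cent_bot ⊤ (mem_top a))))
  have e5 : zpowers a = fittingOf ⊤ := eq_of_le_of_card_eq
    (zpowers_le.2 (cF (cyc _ (e4 ▸ pr3) (le_norm_fittingOf _)))) (by rw [Nat.card_zpowers, ha, e4])
  have e6 : 𝒞[a] = zpowers a := le_antisymm (by rw [← cent_zpowers, e5]; exact cF)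
    (zpowers_le.2 (self_mem_cent1 a))
  have b0 : b ∉ 𝒞[a] := fun k => by
    rw [conj_eq_iff.2 k, ← aa] at hb
    exact a1 (by simpa using hb)
  have e7 : (𝒞[a]).relIndex ⊤ = 2 := relIndex_eq_two_of (mem_top b) b0 fun g _ => by
    have k := conj_mem_of_norm (le_norm_fittingOf (⊤ : Subgroup Y)) (mem_top g)
      (e5 ▸ mem_zpowers a)
    rw [← e5, mem_zpowers_iff_mem_range_orderOf, ha] at k
    obtain ⟨i, hi, e⟩ := Finset.mem_image.1 k
    rw [Finset.mem_range] at hi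
    interval_cases i
    · exact (a1 (by simpa using e.symm)).elim
    · exact Or.inl (conj_eq_iff.1 (by rw [← e, pow_one]))
    · refine Or.inr (conj_eq_iff.1 ?_)
      calc _ = b⁻¹ * (g * a * g⁻¹) * b := by group
        _ = a := by rw [← e, pow_two, aa, ← hb]; group
  rw [← (𝒞[a]).card_mul_index, ← relIndex_top_right, e7, e6, Nat.card_zpowers, ha]

universe u

variable {G : Type u} [Group G] [Finite G] {x s v y g a t : G} {W V Q A X : Subgroup G}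

theorem dvd_sub {p : ℕ} (hp : p.Prime) (hy : orderOf y = p) (hn : y ∈ 𝒩(V)) :
    p ∣ Nat.card V - Nat.card ↥(V ⊓ 𝒞[y]) := by
  have := H48.card_dvd_sub_of_free (A := zpowers y) (M := V) (N := V ⊓ 𝒞[y]) inf_le_left
    (zpowers_le.2 hn) (zpowers_le.2 (norm2 hn (le_normalizer (self_mem_cent1 y))))
    fun g hg g1 a ha hc => by
      have e : zpowers g = zpowers y := (eq_bot_or_eq_of_prime_card
        (by rw [Nat.card_zpowers, hy]; exact hp) (zpowers_le.2 hg)).resolve_left (by simpa)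
      obtain ⟨k, rfl⟩ : y ∈ zpowers g := e ▸ mem_zpowers y
      exact ⟨ha, mem_cent1.2 (Commute.zpow_right hc.symm k)⟩
  rwa [Nat.card_zpowers, hy] at this

theorem ncard_cj (H : Subgroup G) (v : G) :
    {y | ∃ k ∈ H, k * v * k⁻¹ = y}.ncard = (𝒞[v]).relIndex H := by
  let _ : MulAction H G := MulAction.compHom G (MulAut.conj.comp H.subtype)
  have h1 : MulAction.stabilizer H v = (𝒞[v]).subgroupOf H := by
    ext k
    rw [mem_subgroupOf, mem_cent1]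
    exact mul_inv_eq_iff_eq_mul
  rw [relIndex, ← h1, MulAction.index_stabilizer]
  congr 1
  ext y
  exact ⟨fun ⟨k, hk, e⟩ => ⟨⟨k, hk⟩, e⟩, fun ⟨k, e⟩ => ⟨k, k.2, e⟩⟩

theorem dvd8 (c : Nat.card V = 8) (h : A ≤ V) (h0 : ¬ V ≤ A) :
    Nat.card A = 1 ∨ Nat.card A = 2 ∨ Nat.card A = 4 := by
  have e1 := c ▸ card_dvd_of_le h
  have e2 := c ▸ card_lt_of_lt (lt_of_le_not_ge h h0)
  generalize Nat.card A = n at *
  interval_cases n <;> omega

theorem le_core (h6 : (piCoreOf {2} X).relIndex X = 6) (hx : orderOf x = 3) (xX : x ∈ X)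
    (hA : A ≤ X) (two : IsPGroup 2 A) (hn : x ∈ 𝒩(A)) : A ≤ piCoreOf {2} X := by
  have nR := le_norm_piCoreOf {2} X
  have tB : IsPGroup 2 ↥(A ⊔ piCoreOf {2} X) := (isPi_singleton_iff pr2).1
    ((isPi_of_isPGroup pr2 two).sup (piCoreOf_pi _ _) (Or.inl (hA.trans nR)))
  have lB : A ⊔ piCoreOf {2} X ≤ X := sup_le hA (piCoreOf_le _ _)
  have xB : x ∈ 𝒩(A ⊔ piCoreOf {2} X) :=
    norm_sup (A := zpowers x) (zpowers_le.2 hn) (zpowers_le.2 (nR xX)) (mem_zpowers x)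
  have l2 : A ⊔ piCoreOf {2} X ≤ X ⊓ 𝒩(A ⊔ piCoreOf {2} X) := le_inf lB le_normalizer
  have e1 := relIndex_mul_relIndex _ _ _ (le_sup_right : _ ≤ A ⊔ piCoreOf {2} X) lB
  have e2 := relIndex_mul_relIndex _ _ _ l2 inf_le_left
  have e3 : (A ⊔ piCoreOf {2} X).relIndex (X ⊓ 𝒩(A ⊔ piCoreOf {2} X)) ≠ 1 := fun k =>
    not_mem_two tB hx (relIndex_eq_one.1 k ⟨xX, xB⟩)
  obtain ⟨n, hn⟩ := IsPGroup.iff_card.1 tB
  obtain ⟨i, -, e⟩ := (Nat.dvd_prime_pow pr2).1 (hn ▸ relIndex_dvd_card (piCoreOf {2} X) _)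
  rw [h6, e] at e1
  rcases i with _ | _ | i
  · exact le_sup_left.trans (relIndex_eq_one.1 e)
  · rw [show (A ⊔ piCoreOf {2} X).relIndex X = 3 by omega] at e2
    rw [((Nat.dvd_prime pr3).1 (Dvd.intro _ e2)).resolve_left e3] at e2
    have k : X ≤ X ⊓ 𝒩(A ⊔ piCoreOf {2} X) := relIndex_eq_one.1 (by omega)
    exact le_sup_left.trans (le_piCoreOf lB (k.trans inf_le_right) (isPi_of_isPGroup pr2 tB))
  · rw [pow_succ, pow_succ, mul_assoc, mul_assoc, mul_left_comm, mul_left_comm _ 2] at e1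
    omega

section ctx

variable (h : Ctx x s W)
include h

theorem xx : x * x = x⁻¹ :=
  (inv_eq_of_mul_eq_one_right (by rw [← cube_of h.hx, pow_three])).symm

theorem pow6 (c : Commute g x) : g ^ 6 = 1 := by
  obtain ⟨w, hw, e⟩ := h.cent g c
  have w6 : w ^ 6 = 1 := by rw [show 6 = 2 * 3 by rfl, pow_mul, pow_two, h.sq w hw, one_pow]
  have x6 : x ^ 6 = 1 := by rw [show 6 = 3 * 2 by rfl, pow_mul, cube_of h.hx, one_pow]
  rcases e with rfl | rfl | rfl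
  · exact w6
  · rw [(h.cx w hw).mul_pow, w6, x6, one_mul]
  · rw [(h.cx w hw).inv_right.mul_pow, w6, inv_pow, x6, inv_one, one_mul]

theorem memW (two : IsPGroup 2 A) (hg : g ∈ A) (c : Commute g x) : g ∈ W := by
  obtain ⟨w, hw, e⟩ := h.cent g c
  have k := mul_mem hg hg
  rcases e with rfl | rfl | rfl
  · exact hw
  · rw [← pow_two, (h.cx w hw).mul_pow, pow_two, h.sq w hw, one_mul, pow_two, xx h] at k
    exact (not_mem_two two h.hx (inv_mem_iff.1 k)).elim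
  · rw [← pow_two, (h.cx w hw).inv_right.mul_pow, pow_two, h.sq w hw, one_mul, pow_two,
      ← mul_inv_rev, xx h, inv_inv] at k
    exact (not_mem_two two h.hx k).elim

theorem syl3 (xX : x ∈ X) : IsSylowOf 3 (zpowers x) X := (sylowOf_iff pr3).2
  ⟨zpowers_le.2 xX, IsPGroup.of_card (n := 1) (by rw [Nat.card_zpowers, h.hx, pow_one]),
    fun k => h.h9 (Dvd.dvd.trans (by
      rw [← card_mul_relIndex (zpowers_le.2 xX), Nat.card_zpowers, h.hx]
      exact Nat.mul_dvd_mul_left 3 k) X.card_subgroup_dvd_card)⟩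

theorem n21 (g : G) : ¬ 21 ∣ orderOf g := fun k => by
  have hy : orderOf (g ^ (orderOf g / 3)) = 3 :=
    orderOf_pow_orderOf_div (orderOf_pos g).ne' (Dvd.dvd.trans (by norm_num) k)
  obtain ⟨c, -, hc⟩ := sylowOf_subJ (syl3 h (mem_top x)) le_top (isPi_of_isPGroup pr3
    (IsPGroup.of_card (n := 1) (by rw [Nat.card_zpowers, hy, pow_one])))
  have e := eq_of_le_of_card_eq hc (by rw [card_cj, Nat.card_zpowers, Nat.card_zpowers, hy, h.hx])
  have k1 : c * g * c⁻¹ ∈ 𝒞[x] := by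
    rw [← cent_zpowers, ← e, ← cj_centralizer, conj_mem_cj, cent_zpowers]
    exact mem_cent1.2 (Commute.pow_right (Commute.refl g) _)
  have k2 := pow6 h (mem_cent1.1 k1)
  rw [conj_pow, conj_eq_one_iff] at k2
  exact absurd (k.trans (orderOf_dvd_of_pow_eq_one k2)) (by norm_num)

theorem idx6 (ch : IsCharacteristicTwoType G) (hv : orderOf v = 2)
    (sol : Group.IsSolvable 𝒞[v]) (xv : x ∈ 𝒞[v]) (sv : s ∈ 𝒞[v]) (lV : V ≤ 𝒞[v])
    (sq : ∀ a ∈ V, a * a = 1) (c8 : Nat.card V = 8) (hc : 𝒞(V) = V) :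
    (piCoreOf {2} 𝒞[v]).relIndex 𝒞[v] = 6 := by
  have c2 : IsOfCharacteristicTwo 𝒞[v] :=
    norm_zp hv ▸ ch.2 _ (zp_two hv) (by simpa using ne_of hv)
  have hO : oddCore 𝒞[v] = ⊥ := by
    have h1 : pPrimeCore 2 𝒞[v] ≤ 𝒞(pCore 2 𝒞[v]) := by
      rw [← commutator_eq_bot_iff_le_centralizer, eq_bot_iff, ← H22.pCore_inf_pPrimeCore (p := 2),
        inf_comm]
      exact commutator_le_inf _ _
    exact H22.eq_bot_of_pgroup_coprime (H22.isPGroup_pCore.to_le (h1.trans c2))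
      H22.coprime_card_pPrimeCore
  obtain ⟨S, hS, l⟩ := exists_sylowOf_ge
    (isPi_of_isPGroup pr2 (IsPGroup.of_card (n := 3) c8)) lV
  have r := S1232.result ((isPi_singleton_iff pr2).1 hS.pi) (V.subgroupOf S)
    ⟨H50.abelian_subgroupOf (abelian_iff.2 hc.ge) S,
      fun a ha => Subtype.ext (by rw [pow_two]; exact sq a ha)⟩
    (by rw [card_subgroupOf_of_le l, c8]) (le_antisymm
      (fun g hg => hc.le fun a ha => congrArg Subtype.val (hg ⟨a, l ha⟩ ha))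
      fun g hg a ha => Subtype.ext (hc.ge hg a ha))
  have l2 : ∀ g : pCore 2 𝒞[v], ((𝒞[v]).subtype.comp (pCore 2 𝒞[v]).subtype) g ∈ S := fun g =>
    hS.piCoreOf_le (pCore_map_subtype pr2 𝒞[v] ▸ mem_map_of_mem _ g.2)
  obtain ⟨f, hf⟩ := S3103.result ((H22.isPConstrained_iff_of_pPrimeCore_eq_bot hO).2 c2) hO
    (H85.sectionalPRankLE_of_injective (MonoidHom.codRestrict _ S l2)
      (fun a b e => Subtype.ext (Subtype.ext (congrArg Subtype.val e :))) r)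
  have hd := (card_quotient_dvd_card (pCore 2 𝒞[v])).trans (𝒞[v]).card_subgroup_dvd_card
  rw [← pCore_map_subtype pr2, relIndex_map_subtype_self, index]
  refine card_six inferInstance H22.pCore_quotient_pCore ?_ (fun k => h.h5 (k.trans hd))
    (fun k => h.h9 (k.trans hd)) (fun g e => ?_) (a := ((⟨x, xv⟩ : 𝒞[v]) : _ ⧸ _))
    (b := ((⟨s, sv⟩ : 𝒞[v]) : _ ⧸ _)) (orderOf_eq_prime ?_ fun e => ?_) ?_
  · have := card_dvd_of_injective f hf
    rwa [nat_card_alternatingGroup, Nat.card_eq_fintype_card (α := Fin 8), Fintype.card_fin] at this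
  · obtain ⟨g, rfl⟩ := QuotientGroup.mk'_surjective _ g
    exact n21 h g (by rw [orderOf_coe, ← e]; exact orderOf_map_dvd _ _)
  · rw [← QuotientGroup.mk_pow, show (⟨x, xv⟩ : 𝒞[v]) ^ 3 = 1 from Subtype.ext (cube_of h.hx)]
    rfl
  · exact not_mem_two H22.isPGroup_pCore (by rw [← orderOf_coe]; exact h.hx)
      ((QuotientGroup.eq_one_iff _).1 e)
  · rw [← QuotientGroup.mk_inv, ← QuotientGroup.mk_inv, ← QuotientGroup.mk_mul,
      ← QuotientGroup.mk_mul]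
    exact congrArg _ (Subtype.ext h.inv)

theorem s_not (hn : x ∈ 𝒩(A)) (two : IsPGroup 2 A) : s ∉ A := fun k => by
  have := mul_mem k (conj_mem_of_norm le_rfl hn (inv_mem k))
  rw [show s * (x * s⁻¹ * x⁻¹) = s * x * s⁻¹ * x⁻¹ by group, h.inv, ← mul_inv_rev, xx h,
    inv_inv] at this
  exact not_mem_two two h.hx this

end ctx

section hol

variable (hV : Hol V 𝒩(V))
include hV

theorem habel : V ≤ 𝒞(V) := fun a ha b hb => by
  rw [← inv_eq_of_sq (hV.sq _ (mul_mem hb ha)), mul_inv_rev, inv_eq_of_sq (hV.sq a ha),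
    inv_eq_of_sq (hV.sq b hb)]

theorem hcent : 𝒞(V) ≤ V := fun g hg =>
  hV.cent g (cent_le_norm V hg) fun a ha => (hg a ha).symm

theorem htwo : IsPGroup 2 V := IsPGroup.of_card (n := 3) hV.cardV

theorem not_le (g0 : g ∉ V) : ¬ V ≤ V ⊓ 𝒞[g] := fun k =>
  g0 (hcent hV (le_cent1_iff.1 (k.trans inf_le_right)))

theorem exists_af (hx : orderOf x = 3) (hn : x ∈ 𝒩(V)) : ∃ v, AF v x V := by
  have e1 := dvd_sub pr3 hx hn
  have e2 := dvd8 hV.cardV inf_le_left (not_le hV (not_mem_two (htwo hV) hx))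
  have e3 : Nat.card ↥(V ⊓ 𝒞[x]) = 2 := by rw [hV.cardV] at e1; omega
  obtain ⟨v, hv, v1⟩ := ne_bot_iff_exists.1 (ne_bot_of_prime_card (e3 ▸ pr2))
  have ov := ord2 v1 (hV.sq v hv.1)
  have e4 := eq_of_le_of_card_eq (zpowers_le.2 hv) (by rw [Nat.card_zpowers, ov, e3])
  exact ⟨v, htwo hV, ov, hx, hv.1, le_cent1_iff.2 (habel hV hv.1), hn, mem_cent1.1 hv.2,
    fun a ha c => (mem_zp ov).1 (e4.ge ⟨ha, mem_cent1.2 c⟩)⟩

theorem idx7 (hv : v ∈ V) (v1 : v ≠ 1) : (𝒞[v]).relIndex 𝒩(V) = 7 ∧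
    ∀ a ∈ V, a ≠ 1 → ∃ m ∈ 𝒩(V), m * v * m⁻¹ = a := by
  have p7 : Nat.Prime 7 := by norm_num
  have := Fact.mk p7
  have e1 : 7 ∣ (𝒞[v]).relIndex 𝒩(V) := by
    refine ((Nat.Prime.dvd_mul p7).1 (by
      rw [card_inf_mul_relIndex, hV.cardK]; norm_num)).resolve_left fun k => ?_
    obtain ⟨y, hy⟩ := exists_prime_orderOf_dvd_card' 7 k
    rw [← orderOf_coe] at hy
    have e1 := dvd_sub p7 hy y.2.2
    have e2 := dvd8 hV.cardV inf_le_left (not_le hV (g := (y : G)) fun k => by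
      have := orderOf_dvd_of_pow_eq_one ((pow_two _).trans (hV.sq _ k))
      rw [hy] at this
      omega)
    have e3 : Nat.card ↥(V ⊓ 𝒞[(y : G)]) ≠ 1 := fun k =>
      v1 (mem_bot.1 (card_eq_one.1 k ▸ (⟨hv, mem_cent1_comm.1 y.2.1⟩ : v ∈ V ⊓ 𝒞[(y : G)])))
    rw [hV.cardV] at e1
    omega
  have s1 : {y | ∃ k ∈ 𝒩(V), k * v * k⁻¹ = y} ⊆ (V : Set G) \ {1} := by
    rintro _ ⟨k, hk, rfl⟩
    exact ⟨conj_mem_of_norm le_rfl hk hv, fun e => v1 (by simpa using e)⟩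
  have e2 : ((V : Set G) \ {1}).ncard = 7 := by
    rw [Set.ncard_sdiff_singleton_of_mem V.one_mem, ← Nat.card_coe_set_eq]
    exact congrArg (· - 1) hV.cardV
  have e3 := Set.ncard_le_ncard s1
  have e4 := Nat.le_of_dvd (relIndex_pos _ _) e1
  rw [ncard_cj, e2] at e3
  refine ⟨by omega, fun a ha a1 => ?_⟩
  exact (Set.eq_of_subset_of_ncard_le s1 (by rw [ncard_cj, e2]; exact e4)).ge ⟨ha, a1⟩

theorem card_ge (ht : t ∈ 𝒩(V)) (tt : t * t = 1) : 3 ≤ Nat.card ↥(V ⊓ 𝒞[t]) := by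
  have := card_le_sq (fun a ha => ⟨ha, habel hV ha, hV.sq a ha⟩) ht (tt ▸ one_mem _)
  rw [hV.cardV] at this
  nlinarith

theorem transv (hv : v ∈ V) (v1 : v ≠ 1) (ht : t ∈ 𝒩(V)) (t0 : t ∉ V) (tt : t * t = 1) :
    ∃ m ∈ 𝒩(V), m * t * m⁻¹ ∈ zc v V := by
  have e1 := card_ge hV ht tt
  have e2 := dvd8 hV.cardV inf_le_left (not_le hV t0)
  have e3 : (V ⊓ 𝒞[t]).relIndex V = 2 := by
    have := card_mul_relIndex (inf_le_left : V ⊓ 𝒞[t] ≤ V)
    rw [hV.cardV, show Nat.card ↥(V ⊓ 𝒞[t]) = 4 by omega] at this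
    omega
  obtain ⟨a, ha, a0⟩ := SetLike.not_le_iff_exists.1 (not_le hV t0)
  have hb := conj_mem_of_norm le_rfl ht ha
  have hz := mul_mem ha (inv_mem hb)
  obtain ⟨m, hm, e⟩ := (idx7 hV hv v1).2 _ hz fun k =>
    a0 ⟨ha, mem_cent1_comm.1 (conj_eq_iff.1 (mul_inv_eq_one.1 k).symm)⟩
  have z : t ∈ zc (a * (t * a * t⁻¹)⁻¹) V := by
    refine ⟨conj_eq_iff.1 ?_, fun b hb' => ?_⟩
    · rw [← inv_eq_of_sq (hV.sq _ hz)]
      conv_lhs => rw [inv_eq_of_sq (hV.sq _ hz)]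
      simp [mul_assoc, inv_eq_of_sq tt, ← mul_assoc t t, tt]
    · by_cases k : b ∈ V ⊓ 𝒞[t]
      · rw [conj_eq_iff.2 k.2]; simp
      · have k1 := conj_eq_iff.2 (inv_mul_mem_of_two e3 ha hb' a0 k).2
        have : b * t * b⁻¹ * t⁻¹ = a * (t * a * t⁻¹)⁻¹ := by
          calc _ = a * (a⁻¹ * b * t * (a⁻¹ * b)⁻¹) * a⁻¹ * t⁻¹ := by group
            _ = _ := by rw [k1]; group
        exact this ▸ mem_zpowers _
  refine ⟨m⁻¹, inv_mem hm, ?_, fun b hb' => ?_⟩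
  · have := conj_mem_cj (g := m⁻¹).2 z.1
    rwa [cj_cent1, ← e, show m⁻¹ * (m * v * m⁻¹) * m⁻¹⁻¹ = v by group] at this
  · have := conj_mem_cj (g := m⁻¹).2 (z.2 _ (conj_mem_of_norm le_rfl hm hb'))
    rw [cj_zpowers, ← e, show m⁻¹ * (m * v * m⁻¹) * m⁻¹⁻¹ = v by group] at this
    convert this using 1
    group

theorem two_zc (hv : orderOf v = 2) : IsPGroup 2 (zc v V) := fun g => ⟨2, Subtype.ext (by
  have k : (g : G) * g ∈ V := hcent hV fun a ha => by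
    symm
    rw [← mul_inv_eq_iff_eq_mul]
    have k1 := inv_mem (g.2.2 a ha)
    rw [show (a * g * a⁻¹ * (g : G)⁻¹)⁻¹ = g * a * (g : G)⁻¹ * a⁻¹ by group] at k1
    rw [show (g : G) * g * a * ((g : G) * g)⁻¹ = g * (g * a * (g : G)⁻¹) * (g : G)⁻¹ by group]
    rcases cj_cases hv k1 with e | e
    · rw [e, e]
    · calc _ = g * (v * a) * (g : G)⁻¹ := by rw [e]
        _ = g * v * (g : G)⁻¹ * (g * a * (g : G)⁻¹) := by group
        _ = a := by rw [conj_eq_iff.2 g.2.1, e, ← mul_assoc, sq_of hv, one_mul]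
  rw [coe_pow, coe_one, ← hV.sq _ k]
  norm_num [pow_succ, mul_assoc])⟩

end hol

end V8x

open V8x

variable {G : Type*} [Group G] [Finite G] {x s : G} {W : Subgroup G}

theorem Ctx.v8 (h : Ctx x s W) (hW : Nat.card W = 2 ∨ Nat.card W = 4)
    (ch : Cfsg.IsCharacteristicTwoType G)
    (sol : ∀ t : G, orderOf t = 2 → Group.IsSolvable (centralizer ({t} : Set G)))
    {V : Subgroup G} (hV : Hol V (normalizer (V : Set G))) (hx : x ∈ normalizer (V : Set G))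
    (hs : s ∈ normalizer (V : Set G)) : False := by
  have := h.simple
  obtain ⟨v, af⟩ := exists_af hV h.hx hx
  have ov := af.oz
  have vW := memW h af.two af.mem af.zx
  have xv : x ∈ 𝒞[v] := mem_cent1.2 af.zx.symm
  have sv : s ∈ 𝒞[v] := mem_cent1.2 (h.cs v vW).symm
  have ss := sq_of h.hs
  have h6 := idx6 h ch ov (sol v ov) xv sv af.cen hV.sq hV.cardV (le_antisymm (hcent hV) (habel hV))
  have core := fun A => le_core (A := A) h6 h.hx xv
  have nR := le_norm_piCoreOf {2} 𝒞[v]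
  have lR := piCoreOf_le {2} 𝒞[v]
  have tR := (isPi_singleton_iff pr2).1 (piCoreOf_pi {2} 𝒞[v])
  have eR := pCore_map_subtype pr2 𝒞[v]
  generalize piCoreOf {2} 𝒞[v] = R at *
  obtain ⟨h7, tr⟩ := idx7 hV af.mem (ne_of ov)
  have VR := core V af.cen af.two hx
  obtain ⟨Q, hQ⟩ : ∃ Q, Q = R ⊓ 𝒩(V) := ⟨_, rfl⟩
  have QR : Q ≤ R := hQ ▸ inf_le_left
  have QM : Q ≤ 𝒩(V) := hQ ▸ inf_le_right
  have VQ : V ≤ Q := hQ ▸ le_inf VR le_normalizer
  have nQ : 𝒞[v] ⊓ 𝒩(V) ≤ 𝒩(Q) := hQ ▸ norm_inf (inf_le_left.trans nR)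
    (inf_le_right.trans le_normalizer)
  have tQ := tR.to_le QR
  have xQ := nQ ⟨xv, hx⟩
  have i0 := relIndex_sup_zpowers (nQ ⟨sv, hs⟩) (ss ▸ one_mem _) (s_not h xQ tQ)
  have lH : Q ≤ 𝒞[v] ⊓ 𝒩(V) := le_inf (QR.trans lR) QM
  have l0 : Q ⊔ zpowers s ≤ 𝒞[v] ⊓ 𝒩(V) := sup_le lH (zpowers_le.2 ⟨sv, hs⟩)
  have c32 : Nat.card Q = 32 := by
    have e1 := card_inf_mul_relIndex 𝒞[v] 𝒩(V)
    have e2 := card_mul_relIndex lH
    have e3 := relIndex_dvd_of_norm nR (inf_le_left : 𝒞[v] ⊓ 𝒩(V) ≤ _)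
    have e4 := relIndex_dvd_relIndex_of_le_right le_sup_left l0
    obtain ⟨n, hn⟩ := IsPGroup.iff_card.1 tQ
    rw [← inf_relIndex_right, ← inf_assoc, inf_of_le_left lR, ← hQ, h6] at e3
    rw [h7, hV.cardK] at e1
    rw [show Nat.card ↥(𝒞[v] ⊓ 𝒩(V)) = 192 by omega] at e2
    rw [i0] at e4
    have e5 : ¬ 3 ∣ Nat.card Q := fun k => by
      have := pr3.dvd_of_dvd_pow (hn ▸ k)
      omega
    have e6 := Nat.le_of_dvd (by norm_num) e3
    generalize Q.relIndex (𝒞[v] ⊓ 𝒩(V)) = m at *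
    interval_cases m <;> omega
  have d : D v x V Q := ⟨⟨tQ, ov, h.hx, VQ af.mem, QR.trans lR, xQ, af.zx, fun a ha c => by
      refine af.fix a (hcent hV (le_cent1_iff.1 (le_trans (b := V ⊓ 𝒞[a]) ?_ inf_le_right))) c
      have e1 := card_ge hV (QM ha) (h.sq a (memW h tQ ha c))
      by_contra k
      have e2 := dvd8 hV.cardV inf_le_left k
      have e3 := (af.of_le (inf_le_left : V ⊓ 𝒞[a] ≤ V) ⟨af.mem, mem_cent1_comm.1 (lR (QR ha))⟩
        (norm2 hx (le_normalizer (mem_cent1.2 c.symm)))).mod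
      omega⟩, VQ, af.mem, hV.cardV, hV.sq, habel hV, hcent hV, hx, QM, c32⟩
  have sR := s_not h (nR xv) tR
  have i1 := relIndex_sup_zpowers (nR sv) (ss ▸ one_mem _) sR
  have l1 : R ⊔ zpowers s ≤ 𝒞[v] := sup_le lR (zpowers_le.2 sv)
  have i3 : (R ⊔ zpowers s).relIndex 𝒞[v] = 3 := by
    have := relIndex_mul_relIndex _ _ _ le_sup_left l1
    rw [i1, h6] at this
    omega
  have tT : IsPGroup 2 ↥(R ⊔ zpowers s) := (isPi_singleton_iff pr2).1
    ((isPi_of_isPGroup pr2 tR).sup (isPi_of_isPGroup pr2 (zp_two h.hs))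
      (Or.inr (zpowers_le.2 (nR sv))))
  have syl : IsSylowOf 2 (R ⊔ zpowers s) 𝒞[v] := (sylowOf_iff pr2).2 ⟨l1, tT, by omega⟩
  obtain ⟨a, ha, a0⟩ := SetLike.not_le_iff_exists.1 d.v0
  by_cases hR : R ≤ Q
  · obtain rfl : Q = R := le_antisymm QR hR
    obtain ⟨-, ⟨i2⟩⟩ := iso_s3 syl i3 le_sup_left i1 nR fun k =>
      s_not h (k xv) tT (mem_sup_right (mem_zpowers s))
    obtain ⟨X, hX⟩ := exists_sylow_of pr3 (syl3 h xv)
    obtain ⟨c, -, hc⟩ := tr a ha fun e => a0 (e ▸ one_mem _)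
    rcases S3344.result v ov _ rfl Q eR.symm d.es c32 i2 X (by
        rw [hX, cent_zpowers]
        exact le_antisymm (fun a ha => (mem_zp ov).2 (d.af.fix a ha.1 (mem_cent1.1 ha.2)))
          (zpowers_le.2 ⟨d.af.mem, mem_cent1.2 af.zx⟩))
      ⟨c, hc ▸ VQ ha, fun e => a0 (by rw [← hc, e]; exact mem_zpowers v)⟩ with
      ⟨N, hN, -, k1, k2, -⟩ | ⟨⟨e⟩⟩ | ⟨⟨e⟩⟩ | ⟨⟨e⟩⟩
    · rcases hN.eq_bot_or_eq_top with rfl | rfl
      · simp at k2
      · have := orderOf_dvd_of_pow_eq_one (k1 x (mem_top x))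
        rw [h.hx] at this
        omega
    · refine h.h5 ?_
      rw [Nat.card_congr e.toEquiv, nat_card_alternatingGroup, Nat.card_eq_fintype_card,
        Fintype.card_fin]
      decide
    · refine h.h5 ?_
      rw [Nat.card_congr e.toEquiv, nat_card_alternatingGroup, Nat.card_eq_fintype_card,
        Fintype.card_fin]
      decide
    · exact h.h5 (by rw [Nat.card_congr e.toEquiv, H14.card_M12]; norm_num)
  have nil := (isPi_of_isPGroup pr2 tR).nilpotent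
  have r0 : ¬ R ⊓ 𝒩(Q) ≤ Q := fun k => hR (eq_of_inf_norm_le_of_nilpotent nil QR k).ge
  have r1 := tR.to_le (inf_le_left : R ⊓ 𝒩(Q) ≤ R)
  have r2 : Q ≤ R ⊓ 𝒩(Q) := le_inf QR le_normalizer
  have r3 := norm2 (nR xv) (norm_norm le_rfl xQ)
  have r4 : R ⊓ 𝒩(Q) ⊓ 𝒩(V) ≤ Q := fun g hg => hQ ▸ ⟨hg.1.1, hg.2⟩
  have r5 := d.two_idx r1 r2 inf_le_right (inf_le_left.trans lR) r3 r4 r0
  have r6 : R ⊓ 𝒩(Q) = R := eq_of_inf_norm_le_of_nilpotent nil inf_le_left fun g hg =>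
    ⟨hg.1, d.norm_le r1 r2 inf_le_right (inf_le_left.trans lR) r3 r4 r0 hg.2 (lR hg.1)⟩
  rw [r6] at r5
  have c64 : Nat.card R = 64 := by rw [← card_mul_relIndex QR, c32, r5]
  obtain ⟨u, uR, ux, u1, uv⟩ : ∃ u ∈ R, u * x = x * u ∧ u ≠ 1 ∧ u ≠ v := by
    by_contra! k
    have := AF.mod ⟨tR, ov, h.hx, VR af.mem, lR, nR xv, af.zx,
      fun a ha c => or_iff_not_imp_left.2 (k a ha c)⟩
    omega
  have uW := memW h tR uR ux
  have uQ : u ∉ Q := fun k => (d.af.fix u k ux).elim u1 uv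
  obtain ⟨b, hb, b0⟩ : ∃ b ∈ V, u * b * u⁻¹ ∉ V := by
    by_contra! k
    exact uQ (hQ ▸ ⟨uR, mem_norm_of_cj_le fun _ hc => by
      obtain ⟨c, hc', rfl⟩ := mem_cj'.1 hc
      exact k c hc'⟩)
  have q1 := conj_mem_of_norm le_rfl (r6.ge uR).2 (VQ hb)
  have q2 : IsConj v (u * b * u⁻¹) := by
    obtain ⟨c, -, hc⟩ := tr b hb fun e => b0 (by simp [e])
    exact (isConj_iff.2 ⟨c, hc⟩).trans (isConj_iff.2 ⟨u, rfl⟩)
  obtain ⟨T, hT⟩ := exists_sylow_of_top pr2 (sylowOf_of_norm_le syl le_top fun n hn => by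
    have k1 := conj_mem_of_norm le_rfl hn.2 (mem_sup_left (VR af.mem))
    have k2 := conj_mem_of_norm le_rfl (norm_cent le_rfl hn.2) (le_cent1_iff.1 l1)
    have k3 := cent_anti (QR.trans le_sup_left) k2
    rcases (mem_zp ov).1 (d.center ⟨VQ (hcent hV (cent_anti VQ k3)), k3⟩) with e | e
    · exact (ne_of ov (by simpa using e)).elim
    · exact conj_eq_iff.1 e)
  have key : ∀ w ∈ W, w ∈ R → w ∉ Q → ∃ t, IsConj w t ∧ (u * b * u⁻¹)⁻¹ * t ∈ V ∧ t * t = 1 ∧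
      ¬ IsConj (u * b * u⁻¹) t := fun w wW wR wQ => by
    have wv : ¬ IsConj v w := fun k => wQ (h.nc v vW w wW k ▸ d.af.mem)
    have ow : orderOf w = 2 := ord2 (fun e => wQ (e ▸ one_mem _)) (h.sq w wW)
    have l2 : Q ⊔ zpowers s ≤ R ⊔ zpowers s := sup_le_sup_right QR _
    rcases S0111.result T (Q ⊔ zpowers s) (hT ▸ l2) (by
      have e1 := relIndex_mul_relIndex _ _ _ QR (le_sup_left : R ≤ R ⊔ zpowers s)
      have e2 := relIndex_mul_relIndex _ _ _ le_sup_left l2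
      rw [r5, i1] at e1
      rw [i0] at e2
      rw [hT]
      omega) w ow (hT ▸ mem_sup_left wR) (fun k => wQ (hQ ▸ ⟨wR, (l0 k).2⟩)) with
      ⟨N, hN, e, -⟩ | ⟨g, hg⟩
    · rcases hN.eq_bot_or_eq_top with rfl | rfl
      · have := orderOf_dvd_natCard x
        rw [← index_bot, e, h.hx] at this
        omega
      · simp at e
    have g0 : g * w * g⁻¹ ∉ V := fun k => by
      obtain ⟨c, -, hc⟩ := tr _ k fun e => ne_of ow (by simpa using e)
      exact wv ((isConj_iff.2 ⟨c, hc⟩).trans (isConj_iff.2 ⟨g, rfl⟩).symm)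
    obtain ⟨m, hm, e⟩ := transv hV af.mem (ne_of ov) (l0 hg).2 g0 (conj_sq (h.sq w wW) g)
    have m1 : m * (g * w * g⁻¹) * m⁻¹ ∈ Q := hQ ▸
      ⟨core _ zc_le (two_zc hV ov) (norm_zc xv hx) e, d.norm_of_zc e⟩
    obtain ⟨t, ht, e'⟩ := d.cos q1 b0 m1 fun k => g0 (by
      simpa [mul_assoc] using conj_mem_of_norm' le_rfl hm k)
    have c : IsConj w t := ((isConj_iff.2 ⟨g, rfl⟩).trans (isConj_iff.2 ⟨m, rfl⟩)).trans ht
    refine ⟨t, c, e', ?_, fun k => wv ((q2.trans k).trans c.symm)⟩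
    obtain ⟨c', rfl⟩ := isConj_iff.1 c
    exact conj_sq (h.sq w wW) c'
  obtain ⟨t₁, c1, m1, s1, n1⟩ := key u uW uR uQ
  obtain ⟨t₂, c2, m2, s2, n2⟩ := key (u * v) (mul_mem uW vW) (mul_mem uR (VR af.mem))
    fun k => uQ ((mul_mem_cancel_right d.af.mem).1 k)
  have := h.nc u uW _ (mul_mem uW vW)
    ((c1.trans (d.invol q1 b0 (conj_sq (hV.sq b hb) u) m1 m2 s1 s2 n1 n2)).trans c2.symm)
  exact ne_of ov (by simpa using this)

end Cfsg.Agent.CV
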