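import Cfsg.Agent.CV.LocA
import Cfsg.Agent.CV.Tg
import Cfsg.Agent.CV.Basic
import Cfsg.Agent.CV.Mod0
import Cfsg.Agent.H36.G168

/-! Minimal normal subgroups in the centre of the kernel. -/

set_option autoImplicit false

namespace Cfsg.Agent.CV

open Subgroup Cfsg.Agent.H49

theorem card_fix_mod {G : Type*} [Group G] [Finite G] {D : Subgroup G} {g : G} {r : ℕ}
    [Fact r.Prime] (hg : ∀ d ∈ D, g * d * g⁻¹ ∈ D) (h1 : g ^ r = 1) :
    Nat.card D ≡ Nat.card ↥(D ⊓ 𝒞[g]) [MOD r] := by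
  classical
  have := Fintype.ofFinite D
  let f : Function.End D := fun d => ⟨g * d * g⁻¹, hg d d.2⟩
  have k : ∀ (n : ℕ) (d : D), ((f ^ n) d : G) = g ^ n * d * (g ^ n)⁻¹ := fun n => by
    induction n with
    | zero => intro d; simp; rfl
    | succ n ih =>
      intro d
      rw [pow_succ, pow_succ]
      exact (ih (f d)).trans (by simp only [f]; group)
  have := Equiv.Perm.card_fixedPoints_modEq (f := f) (p := r) (n := 1) (by
    funext d
    apply Subtype.ext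
    rw [pow_one, k, h1]; simp; rfl)
  rw [← Nat.card_eq_fintype_card, ← Nat.card_eq_fintype_card] at this
  rwa [Nat.card_congr (α := Function.fixedPoints f) (β := ↥(D ⊓ 𝒞[g]))
    ⟨fun d => ⟨d.1.1, d.1.2, mem_cent1.2 (mul_inv_eq_iff_eq_mul.1 (congrArg Subtype.val d.2)).symm⟩,
      fun d => ⟨⟨d.1, d.2.1⟩, Subtype.ext (mul_inv_eq_iff_eq_mul.2 (mem_cent1.1 d.2.2).symm)⟩,
      fun _ => rfl, fun _ => rfl⟩] at this

theorem card_L7 : Nat.card L7 = 168 :=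
  let ⟨e⟩ := H14.L27.equiv (ZMod.card 7)
  (Nat.card_congr e.toEquiv).trans H14.L27.card

theorem exists_237 : ∃ a b : L7, orderOf a = 2 ∧ orderOf b = 3 ∧ orderOf (a * b) = 7 := by
  obtain ⟨e⟩ := H14.L27.equiv (ZMod.card 7)
  have hm : H56.memOK 3 8 8 H14.L27.certL [0xde5053, 0x535ec8] = true := by decide +kernel
  obtain ⟨a, ea⟩ := H14.L27.chain.cd_ex e hm (P := 0xde5053) (by simp)
  obtain ⟨b, eb⟩ := H14.L27.chain.cd_ex e hm (P := 0x535ec8) (by simp)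
  exact ⟨a, b, H14.L27.E.cd_ord e ea (by decide +kernel), H14.L27.E.cd_ord e eb (by decide +kernel),
    H14.L27.E.cd_ord e (by rw [H14.Enc.cd_mul, ea, eb]) (by decide +kernel)⟩

theorem conj_prime {L : Type*} [Group L] [Finite L] {p : ℕ} (hp : p.Prime) (h : ¬ p ^ 2 ∣ Nat.card L)
    {a b : L} (ha : orderOf a = p) (hb : orderOf b = p) : ∃ l, b ∈ zpowers (l * a * l⁻¹) := by
  have := Fact.mk hp
  have key : ∀ x : L, orderOf x = p → IsSylowOf p (zpowers x) ⊤ := fun x ox =>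
    (sylowOf_iff hp).2 ⟨le_top, IsPGroup.of_card (n := 1) (by rw [Nat.card_zpowers, ox, pow_one]),
      fun e => h (by
        rw [← (zpowers x).card_mul_index, Nat.card_zpowers, ox, pow_two]
        exact Nat.mul_dvd_mul_left p (relIndex_top_right (zpowers x) ▸ e))⟩
  obtain ⟨l, -, e⟩ := sylowOf_conj (key a ha) (key b hb)
  exact ⟨l, by rw [← cj_zpowers, e]; exact mem_zpowers b⟩

variable {M L : Type*} [Group M] [Finite M] [Group L] {π : M →* L} {x s y : M} {p : ℕ}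

/-- `y` has order `p` and `x` normalises `⟨y⟩` -/
structure Yd (π : M →* L) (p : ℕ) (x y : M) : Prop where
  oy : orderOf (π y) = p
  pow : y ^ p = 1
  norm : x ∈ 𝒩(zpowers y)

omit [Finite M] in
theorem Yd.quo (h : Yd π p x y) (N : Subgroup M) [N.Normal] (hle : N ≤ π.ker) :
    Yd (QuotientGroup.lift N π hle) p (x : M ⧸ N) (y : M ⧸ N) :=
  ⟨h.oy, by rw [← QuotientGroup.mk_pow, h.pow]; rfl, by
    have := le_normalizer_map (QuotientGroup.mk' N) ⟨x, h.norm, rfl⟩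
    rwa [MonoidHom.map_zpowers] at this⟩

theorem card_cent_le {N : Subgroup M} (hN : N.Normal) (hc : π.ker ≤ 𝒞(N)) {g g' : M} {l : L}
    (hs : Function.Surjective π) (h : π g' ∈ zpowers (l * π g * l⁻¹)) :
    Nat.card ↥(N ⊓ 𝒞[g]) ≤ Nat.card ↥(N ⊓ 𝒞[g']) := by
  obtain ⟨m, rfl⟩ := hs l
  obtain ⟨k, hk⟩ := h
  rw [← card_cj m, cj_inf, cj_cent1, cj_eq_of_mem_norm (normal_iff_top_le_norm.1 hN (mem_top m))]
  refine card_le_of_le fun n hn => ⟨hn.1, mem_cent1.2 ?_⟩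
  have h1 : ((m * g * m⁻¹) ^ k)⁻¹ * g' ∈ π.ker := by
    simp only [MonoidHom.mem_ker, map_mul, map_inv, map_zpow, ← hk, inv_mul_cancel]
  have := Commute.mul_right (Commute.zpow_right (mem_cent1.1 hn.2) k) (hc h1 n hn.1)
  rwa [mul_inv_cancel_left] at this

namespace Loc

theorem exists_y (h : Loc π x s) (T : Tg L p) (two : IsPGroup 2 π.ker) : ∃ y, Yd π p x y := by
  obtain ⟨P, y, oy, hP, hx, hle, g, hg, rfl⟩ := h.exists_P T
  have := Fact.mk T.prime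
  have hd := IsPGroup.disjoint_of_ne p 2 (by rcases T.pp with rfl | rfl <;> norm_num) _ _ hP two
  have e : zpowers g = P := le_antisymm (zpowers_le.2 hg) fun u hu => by
    obtain ⟨k, hk⟩ := hle hu
    have := disjoint_def.1 hd (mul_mem (inv_mem (zpow_mem hg k)) hu)
      (by simp only [MonoidHom.mem_ker, map_mul, map_inv, map_zpow, ← hk, inv_mul_cancel])
    exact ⟨k, inv_mul_eq_one.1 this⟩
  exact ⟨g, oy, disjoint_def.1 hd (pow_mem hg p)
    (by rw [MonoidHom.mem_ker, map_pow, ← oy, pow_orderOf_eq_one]), e ▸ hx⟩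

theorem wie' (h : Loc π x s) (T : Tg L p) (hy : Yd π p x y) {N : Subgroup M} (hN : N.Normal)
    (two : IsPGroup 2 N) : Nat.card ↥(N ⊓ (𝒞[y] ⊓ 𝒞[x])) ^ 3 * Nat.card N =
      Nat.card ↥(N ⊓ 𝒞[x]) ^ 3 * Nat.card ↥(N ⊓ 𝒞[y]) := by
  have := h.wie T (P := zpowers y) (H2.isPGroup_of_forall_pow_eq_one (by
    rintro _ ⟨k, rfl⟩
    rw [← zpow_natCast, ← zpow_mul, mul_comm, zpow_mul, zpow_natCast, hy.pow, one_zpow])) hy.norm hN two
  rwa [cent_sup, cent_zpowers, cent_zpowers] at this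

theorem cen_x (h : Loc π x s) (T : Tg L p) {N : Subgroup M} (hN : N.Normal) {g : M} (hg : π g ≠ 1)
    (hc : N ≤ 𝒞[g]) : N ≤ 𝒞[x] :=
  le_cent1_iff.2 ((h.normal T inferInstance).resolve_left fun e => hg (e (le_cent1_iff.1 hc)))

omit [Finite M] in
theorem cen_all (h : Loc π x s) (T : Tg L p) {N : Subgroup M} (hN : N.Normal) (hq : π.ker ≤ 𝒞(N))
    {g : M} (hg : π g ≠ 1) (hc : N ≤ 𝒞[g]) : N ≤ center M := by
  have := T.simple
  have e := ((inferInstance : (𝒞(N)).Normal).map π h.surj).eq_bot_or_eq_top.resolve_left fun e =>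
    hg ((Subgroup.map_eq_bot_iff _).1 e (le_cent1_iff.1 hc))
  have e2 := comap_map_eq π 𝒞(N)
  rw [e, comap_top, sup_eq_left.2 hq] at e2
  exact fun n hn => mem_center_iff.2 fun g => (e2.le (mem_top g) n hn).symm

theorem selfc (h : Loc π x s) (T : Tg L p) {V : Subgroup M} (hV : V.Normal) (hle : V ≤ π.ker)
    (hc : Nat.card ↥(π.ker ⊓ 𝒞[x]) < Nat.card V) (g : M) (hg : ∀ v ∈ V, Commute g v) : g ∈ π.ker := by
  by_contra e
  exact hc.not_ge (card_le_of_le (le_inf hle (h.cen_x T hV e fun v hv => mem_cent1.2 (hg v hv).symm)))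

theorem eq_ker (h : Loc π x s) (T : Tg L p) (two : IsPGroup 2 π.ker) {N : Subgroup M} [N.Normal]
    (hle : N ≤ π.ker) (hc : Nat.card ↥(N ⊓ 𝒞[x]) = Nat.card ↥(π.ker ⊓ 𝒞[x])) : N = π.ker := by
  have h1 := h.card_quo hle hle (normal_iff_top_le_norm.1 inferInstance (mem_top x))
  rw [hc, mul_eq_right₀ Nat.card_pos.ne', card_eq_one] at h1
  refine le_antisymm hle ?_
  by_contra e
  refine (h.quo N hle).c1 T ((inferInstance : π.ker.Normal).map _ (QuotientGroup.mk'_surjective N))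
    (two.map _) (fun e2 => e ?_) h1
  rwa [Subgroup.map_eq_bot_iff, QuotientGroup.ker_mk'] at e2

variable {π : M →* L7}

omit [Finite M] in
theorem gen42 {H : Subgroup M} (hq : π.ker ≤ H) {a b c : M} (ha : a ∈ H) (hb : b ∈ H)
    (hc : c ∈ H) (oa : orderOf (π a) = 2) (ob : orderOf (π b) = 3) (oc : orderOf (π c) = 7) : H = ⊤ := by
  have := tg7.simple
  have : Finite L7 := Nat.finite_of_card_ne_zero (by rw [card_L7]; norm_num)
  have e : H.map π = ⊤ := by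
    by_contra e
    have h1 := H36.G168.card_le card_L7 e
    have h2 := oa ▸ (H.map π).orderOf_dvd_natCard (mem_map_of_mem π ha)
    have h3 := ob ▸ (H.map π).orderOf_dvd_natCard (mem_map_of_mem π hb)
    have h4 := oc ▸ (H.map π).orderOf_dvd_natCard (mem_map_of_mem π hc)
    have h5 : 0 < Nat.card (H.map π) := Nat.card_pos
    omega
  rw [← sup_eq_left.2 hq, ← comap_map_eq, e, comap_top]

theorem minN (h : Loc π x s) (two : IsPGroup 2 π.ker) (hy : Yd π 7 x y) {K : Subgroup M}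
    (hK : K.Normal) (h0 : K ≠ ⊥) (hle : K ≤ π.ker ⊓ 𝒞(π.ker)) (hc : Nat.card ↥(π.ker ⊓ 𝒞[x]) < 8) :
    ∃ N : Subgroup M, N.Normal ∧ N ≤ K ∧ N ≠ ⊥ ∧ (∀ n ∈ N, n * n = 1) ∧
      ((N ≤ center M ∧ Nat.card N = 2) ∨
        (Nat.card N = Nat.card ↥(N ⊓ 𝒞[x]) ^ 3 ∧ N ⊓ 𝒞[y] = ⊥)) := by
  obtain ⟨N, hN, n0, hNK, hmin⟩ := H2.exists_minimal_normal_le K hK h0
  have h1 : N ≤ π.ker := hNK.trans (hle.trans inf_le_left)
  have h2 : π.ker ≤ 𝒞(N) := cent_symm (hNK.trans (hle.trans inf_le_right))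
  have hab := abelian_iff.2 (h1.trans h2)
  obtain ⟨t, ht, t1⟩ := ne_bot_iff_exists.1 n0
  have sq : ∀ n ∈ N, n * n = 1 := by
    obtain ⟨q, hq, e⟩ := H2.minimal_normal_exponent_of_comm N hab n0 hmin
    obtain ⟨k, hk⟩ := IsPGroup.iff_card.1 two
    have := orderOf_eq_prime (hp := ⟨hq⟩) (e t ht) t1 ▸ π.ker.orderOf_dvd_natCard (h1 ht)
    obtain rfl := (Nat.prime_dvd_prime_iff_eq hq Nat.prime_two).1 (hq.dvd_of_dvd_pow (hk ▸ this))
    exact fun n hn => pow_two n ▸ e n hn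
  refine ⟨N, hN, hNK, n0, sq, ?_⟩
  by_cases hz : N ≤ center M
  · refine Or.inl ⟨hz, ?_⟩
    have hle' := zpowers_le.2 ht
    rw [← (hmin (zpowers t) ⟨fun n hn g => by
        rwa [mem_center_iff.1 (hz (hle' hn)) g, mul_inv_cancel_right]⟩ hle').resolve_left (by simpa),
      Nat.card_zpowers, ord2 t1 (sq t ht)]
  right
  have : Finite L7 := Finite.of_surjective π h.surj
  obtain ⟨a, b, oa, ob, oc⟩ := exists_237
  obtain ⟨a, rfl⟩ := h.surj a
  obtain ⟨b, rfl⟩ := h.surj b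
  rw [← map_mul] at oc
  have S := scottM hab a b (fun W hW ha hb => hmin W (normal_iff_top_le_norm.2 (gen42
      ((h2.trans (cent_anti hW)).trans (cent_le_norm W)) ha hb (mul_mem ha hb) oa ob oc).ge) hW)
    fun e => hz (h.cen_all tg7 hN h2 (ne_one_of (n := 0) oa) e)
  obtain ⟨l1, e1⟩ := isConj_iff.1 (tg7.conj2 _ _ h.ops oa)
  obtain ⟨l2, e2⟩ := conj_prime Nat.prime_three tg7.h9 h.opx ob
  obtain ⟨l3, e3⟩ := conj_prime (by norm_num) tg7.psq hy.oy oc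
  have S' := (Nat.mul_le_mul (Nat.mul_le_mul (card_cent_le hN h2 h.surj (by rw [e1]; exact mem_zpowers _))
    (card_cent_le hN h2 h.surj e2)) (card_cent_le hN h2 h.surj e3)).trans S
  have F := (fixM sq h.xx h.ss h.inv fun n hn c => h.cs n c (sq n hn)).1
  have W := h.wie' tg7 hy hN (two.to_le h1)
  have c1 : Nat.card ↥(N ⊓ 𝒞[x]) < 8 := (card_le_of_le (inf_le_inf_right _ h1)).trans_lt hc
  have c2 : Nat.card ↥(N ⊓ 𝒞[x]) ≤ Nat.card ↥(N ⊓ 𝒞[s]) := card_le_of_le fun n hn =>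
    ⟨hn.1, mem_cent1.2 (h.cs n (mem_cent1.1 hn.2) (sq n hn.1))⟩
  have p1 : 0 < Nat.card ↥(N ⊓ 𝒞[x]) := Nat.card_pos
  have p2 : 0 < Nat.card ↥(N ⊓ 𝒞[y]) := Nat.card_pos
  have p3 : 0 < Nat.card ↥(N ⊓ (𝒞[y] ⊓ 𝒞[x])) := Nat.card_pos
  rw [← card_eq_one]
  generalize Nat.card ↥(N ⊓ 𝒞[x]) = c at *
  generalize Nat.card ↥(N ⊓ 𝒞[y]) = e at *
  generalize Nat.card ↥(N ⊓ 𝒞[s]) = f at *
  generalize Nat.card ↥(N ⊓ (𝒞[y] ⊓ 𝒞[x])) = d at *
  generalize Nat.card N = n at *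
  have a1 : d ^ 3 * f ≤ c ^ 2 := Nat.le_of_mul_le_mul_right (by
    calc d ^ 3 * f * (c * e) = d ^ 3 * (f * c * e) := by ring
      _ ≤ d ^ 3 * n := Nat.mul_le_mul_left _ S'
      _ = _ := by rw [W]; ring) (Nat.mul_pos p1 p2)
  have a2 : d ^ 3 ≤ c := Nat.le_of_mul_le_mul_right
    ((Nat.mul_le_mul_left _ c2).trans (a1.trans (pow_two c).le)) p1
  obtain rfl : d = 1 := by
    by_contra e
    have := Nat.pow_le_pow_left (show 2 ≤ d by omega) 3
    omega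
  rw [one_pow, one_mul] at W a1
  have a3 := Nat.pow_le_pow_left a1 2
  rw [F, W] at a3
  obtain rfl : e = 1 := le_antisymm (Nat.le_of_mul_le_mul_left (c := c ^ 4)
    (by calc c ^ 4 * e = c ^ 3 * e * c := by ring
      _ ≤ _ := a3
      _ = _ := by ring) (by positivity)) p2
  exact ⟨by rw [W, mul_one], rfl⟩

end Loc

end Cfsg.Agent.CV
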